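import Cfsg.Statements.S2202
import Cfsg.Agent.AbInv.Final

set_option autoImplicit false
open Cfsg

namespace Cfsg.Agent.S2202

open Cfsg.Agent.AbInv Subgroup

theorem cyc {P : Type*} [Group P] [Finite P] (hP : IsPGroup 2 P) (hc : ∀ a b : P, Commute a b)
    (h : ∀ s t : P, Inv s → Inv t → s = t) : IsCyclic P := by
  classical
  have := Fintype.ofFinite P
  have key : ∀ k : ℕ, (Finset.univ.filter fun a : P => a ^ 2 ^ k = 1).card ≤ 2 ^ k := by
    intro k
    induction k with
    | zero => exact Finset.card_le_one.2 fun a ha b hb => by simp at ha hb; rw [ha, hb]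
    | succ k ih =>
      refine (Finset.card_le_mul_card_image_of_maps_to (f := fun a => a ^ 2)
        (t := Finset.univ.filter fun a : P => a ^ 2 ^ k = 1) (fun a ha => ?_) 2 fun b _ => ?_).trans
        (by rw [pow_succ']; exact Nat.mul_le_mul_left 2 ih)
      · simp only [Finset.mem_filter, Finset.mem_univ, true_and] at ha ⊢
        rwa [← pow_mul, ← pow_succ']
      · by_contra h1
        obtain ⟨x, y, z, hx, hy, hz, h2, h3, h4⟩ := Finset.two_lt_card_iff.1 (not_le.1 h1)
        simp only [Finset.mem_filter] at hx hy hz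
        have e : ∀ y, y ^ 2 = b → x ≠ y → Inv (x⁻¹ * y) := fun y hy h2 =>
          ⟨by rw [← sq, (hc _ _).mul_pow, inv_pow, hx.2, hy, inv_mul_cancel],
            fun e => h2 (inv_mul_eq_one.1 e)⟩
        exact h4 (mul_left_cancel (h _ _ (e y hy.2 h2) (e z hz.2 h3)))
  refine isCyclic_of_card_pow_eq_one_le fun n hn => ?_
  obtain ⟨k, m, hm, rfl⟩ := Nat.exists_eq_two_pow_mul_odd hn.ne'
  refine le_trans (Finset.card_le_card fun a ha => ?_) ((key k).trans
    (Nat.le_mul_of_pos_right _ hm.pos))
  simp only [Finset.mem_filter, Finset.mem_univ, true_and] at ha ⊢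
  obtain ⟨j, hj⟩ := IsPGroup.iff_orderOf.1 hP a
  rw [← orderOf_dvd_iff_pow_eq_one, hj] at ha ⊢
  exact (Nat.Coprime.pow_left j (Nat.coprime_two_left.2 hm)).dvd_of_dvd_mul_right ha


/-- Finite groups in which the centralizer of every involution is abelian. Let G be a finite group of even order in which the centralizer of every element of order 2 is abelian. Then the Sylow 2-subgroups of G are cyclic, or a Sylow 2-subgroup of G is normal, or G is isomorphic to the direct product of SL₂(F) for a finite field F of characteristic two and an abelian group of odd order. -/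
theorem result {G : Type*} [Group G] [Finite G] (heven : Even (Nat.card G)) (h : ∀ t : G, orderOf t = 2 → IsMulCommutative ↥(Subgroup.centralizer ({t} : Set G))) :
    (∀ P : Sylow 2 G, IsCyclic ↥P) ∨ (∀ P : Sylow 2 G, (P : Subgroup G).Normal) ∨
    (∃ (F : Type) (_ : Field F) (_ : Fintype F) (A : Type) (_ : CommGroup A) (_ : Finite A), CharP F 2 ∧ Odd (Nat.card A) ∧ Nonempty (G ≃* Matrix.SpecialLinearGroup (Fin 2) F × A)) := by
  have A : Ab G := fun t a b ht ha hb => congrArg Subtype.val
    ((h t (inv_iff.1 ht)).is_comm.comm ⟨a, mem_centralizer_singleton_iff.2 ha.symm⟩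
      ⟨b, mem_centralizer_singleton_iff.2 hb.symm⟩)
  by_cases h1 : ∃ s t : G, Inv s ∧ Inv t ∧ s ≠ t ∧ Commute s t
  swap
  · refine Or.inl fun P => cyc P.isPGroup' (fun a b => commute_coe.1 (A.sylow_comm P a.2 b.2))
      fun s t hs ht => ?_
    by_contra e
    exact h1 ⟨s, t, inv_coe.2 hs, inv_coe.2 ht, fun e' => e (Subtype.ext e'),
      A.sylow_comm P s.2 t.2⟩
  by_cases h2 : ∃ s t : G, Inv s ∧ Inv t ∧ ¬ Commute s t
  swap
  · push Not at h2
    obtain ⟨t, -, ht, -⟩ := h1
    have key : ∀ P : Sylow 2 G, ∀ x ∈ P, Commute t x := fun P x hx => by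
      by_cases e : x = 1
      · rw [e]; exact Commute.one_right _
      obtain ⟨k, hk⟩ := (IsPGroup.iff_orderOf.1 P.isPGroup') ⟨x, hx⟩
      rw [← orderOf_coe] at hk
      have h3 : k ≠ 0 := by rintro rfl; exact e (orderOf_eq_one_iff.1 hk)
      obtain ⟨j, hj⟩ := exists_inv_pow (x := x) (by
        rw [hk]; exact (Nat.even_pow.2 ⟨even_two, h3⟩)) (orderOf_pos _).ne'
      exact A.trans hj (h2 _ _ hj ht) ((Commute.refl x).pow_left j)
    refine Or.inr (Or.inl fun P => ⟨fun x hx g => ?_⟩)
    have h3 : g * x * g⁻¹ ∈ ((g • P : Sylow 2 G) : Subgroup G) :=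
      Subgroup.smul_mem_pointwise_smul x (MulAut.conj g) P hx
    have h4 : g * x * g⁻¹ ∈ normalizer ((P : Subgroup G) : Set G) :=
      centralizer_le_normalizer _ (mem_centralizer_iff.2 fun y hy =>
        A _ _ _ ht (key P y hy) (key _ _ h3))
    exact (((g • P).isPGroup'.inf_normalizer_sylow P).le ⟨h3, h4⟩).2
  have H : Hyp G := ⟨A, h1, h2⟩
  obtain ⟨F, _, _, _, ⟨e⟩⟩ := H.main
  have := Fintype.ofFinite F
  let _ : CommGroup (center G) := { (inferInstance : Group (center G)) with
    mul_comm := fun a b => Subtype.ext (mem_center_iff.1 b.2 a) }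
  refine Or.inr (Or.inr ⟨F, inferInstance, inferInstance, Shrink.{0} (center G), inferInstance,
    Finite.of_equiv _ (equivShrink _), inferInstance, ?_,
    ⟨e.trans ((MulEquiv.refl _).prodCongr (equivShrink.{0} (center G)).symm.mulEquiv.symm)⟩⟩)
  rw [Nat.card_congr (equivShrink _).symm, ← Nat.not_even_iff_odd, even_iff_two_dvd]
  intro h3
  obtain ⟨z, hz⟩ := exists_prime_orderOf_dvd_card' 2 h3
  have := inv_coe.2 (inv_iff.2 hz)
  exact this.2 (H.center_eq z.2 this.1)

end Cfsg.Agent.S2202
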