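import Cfsg.Statements.S2299
import Cfsg.Agent.GL2Char.SLCount

set_option autoImplicit false
open Cfsg

namespace Cfsg.Agent.S2299

open Cfsg.Agent.CharLib Cfsg.Agent.GL2Char

/-- Over a finite field F with q elements, q odd, every irreducible complex character of SL₂ has degree 1, q, q + 1, q − 1, (q + 1)/2 or (q − 1)/2; and when q ≥ 5 (so that these six numbers are distinct) there are exactly one irreducible character of degree 1, one of degree q, (q − 3)/2 of degree q + 1, (q − 1)/2 of degree q − 1, two of degree (q + 1)/2 and two of degree (q − 1)/2. -/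
theorem result {F : Type*} [Field F] [Fintype F] (hodd : Odd (Fintype.card F)) :
    (∀ χ : Matrix.SpecialLinearGroup (Fin 2) F → ℂ, Cfsg.IsIrrCharacter (Matrix.SpecialLinearGroup (Fin 2) F) χ →
      χ 1 = 1 ∨ χ 1 = (Fintype.card F : ℂ) ∨ χ 1 = (Fintype.card F : ℂ) + 1 ∨ χ 1 = (Fintype.card F : ℂ) - 1 ∨
        χ 1 = (((Fintype.card F + 1) / 2 : ℕ) : ℂ) ∨ χ 1 = (((Fintype.card F - 1) / 2 : ℕ) : ℂ)) ∧
    (5 ≤ Fintype.card F →
      Nat.card {χ : Cfsg.IrrCharacter (Matrix.SpecialLinearGroup (Fin 2) F) // (χ : Matrix.SpecialLinearGroup (Fin 2) F → ℂ) 1 = 1} = 1 ∧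
      Nat.card {χ : Cfsg.IrrCharacter (Matrix.SpecialLinearGroup (Fin 2) F) // (χ : Matrix.SpecialLinearGroup (Fin 2) F → ℂ) 1 = (Fintype.card F : ℂ)} = 1 ∧
      Nat.card {χ : Cfsg.IrrCharacter (Matrix.SpecialLinearGroup (Fin 2) F) // (χ : Matrix.SpecialLinearGroup (Fin 2) F → ℂ) 1 = (Fintype.card F : ℂ) + 1} = (Fintype.card F - 3) / 2 ∧
      Nat.card {χ : Cfsg.IrrCharacter (Matrix.SpecialLinearGroup (Fin 2) F) // (χ : Matrix.SpecialLinearGroup (Fin 2) F → ℂ) 1 = (Fintype.card F : ℂ) - 1} = (Fintype.card F - 1) / 2 ∧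
      Nat.card {χ : Cfsg.IrrCharacter (Matrix.SpecialLinearGroup (Fin 2) F) // (χ : Matrix.SpecialLinearGroup (Fin 2) F → ℂ) 1 = (((Fintype.card F + 1) / 2 : ℕ) : ℂ)} = 2 ∧
      Nat.card {χ : Cfsg.IrrCharacter (Matrix.SpecialLinearGroup (Fin 2) F) // (χ : Matrix.SpecialLinearGroup (Fin 2) F → ℂ) 1 = (((Fintype.card F - 1) / 2 : ℕ) : ℂ)} = 2) := by
  classical
  have ha := cast_half_add hodd
  have hs := cast_half_sub hodd
  refine ⟨fun χ hχ => ?_, fun hq => ⟨card_sl_degree_one (by omega), card_sl_degree_q, ?_, ?_,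
    card_sl_degree_half_add hodd hq, card_sl_degree_half_sub hodd hq⟩⟩
  · obtain ⟨K, _, _, _, _, _⟩ := exists_quad F
    rcases isIrr_SL2_cases K hχ with rfl | rfl | ⟨α, -, rfl⟩ | ⟨θ, -, rfl⟩ | ⟨α, -, -, χ', h1⟩ |
      ⟨θ, -, -, χ', h1⟩
    · simp
    · simp [stSL_apply_one]
    · simp [psSL_apply_one]
    · simp [cuspSL_apply_one]
    · have := h1.degree
      rw [psSL_apply_one] at this
      refine Or.inr (Or.inr (Or.inr (Or.inr (Or.inl ?_))))
      linear_combination (this - ha) / 2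
    · have := h1.degree
      rw [cuspSL_apply_one] at this
      refine Or.inr (Or.inr (Or.inr (Or.inr (Or.inr ?_))))
      linear_combination (this - hs) / 2
  · have h := card_sl_degree_q_add_one (F := F)
    obtain ⟨k, hk⟩ := hodd
    rw [Nat.gcd_eq_right (show 2 ∣ Fintype.card F - 1 from ⟨k, by omega⟩)] at h
    exact Nat.eq_div_of_mul_eq_right two_ne_zero (h.trans (by omega))
  · have h := card_sl_degree_q_sub_one (F := F) (by omega)
    obtain ⟨k, hk⟩ := hodd
    rw [Nat.gcd_eq_right (show 2 ∣ Fintype.card F + 1 from ⟨k + 1, by omega⟩)] at h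
    exact Nat.eq_div_of_mul_eq_right two_ne_zero (h.trans (by omega))

end Cfsg.Agent.S2299
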