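import Cfsg.Statements.S2325
import Cfsg.Agent.SL2.Elem

set_option autoImplicit false
open Cfsg

namespace Cfsg.Agent.S2325

open Cfsg.Agent.SL2

/-- Over a finite field with q elements, q odd, the special linear group SL₂ has exactly q + 4 conjugacy classes. -/
theorem result {F : Type*} [Field F] [Fintype F] (hodd : Odd (Fintype.card F)) :
    Nat.card (ConjClasses (Matrix.SpecialLinearGroup (Fin 2) F)) = Fintype.card F + 4 := by
  classical
  have h2 : (2 : F) ≠ 0 := two_ne_zero_of_odd hodd
  have h22 : (-2 : F) ≠ 2 := fun e => by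
    have : (2 : F) * 2 = 0 := by linear_combination -e
    simp [h2] at this
  let R : SLT F → Prop := fun g => ∃ x y, Q g.1 x y = 1
  let f : SLT F → F ⊕ (Bool × Bool) := fun g =>
    if R g then Sum.inl g.1.trace else Sum.inr (decide (IsScal g.1), decide (g.1.trace = 2))
  have hR : ∀ g : SLT F, ¬ R g → g.1.trace = 2 ∨ g.1.trace = -2 := fun g hg => by
    apply trace_eq_of_disc
    by_contra h
    exact hg (Q_surj (by rw [g.2]; simpa using h) 1)
  have hR' : ∀ g : SLT F, ¬ R g → ∀ x y, Q g.1 x y ≠ 0 → ¬ IsSquare (Q g.1 x y) := by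
    rintro g hg x y h0 ⟨s, hs⟩
    have hs0 : s ≠ 0 := by rintro rfl; simp [hs] at h0
    exact hg ⟨s⁻¹ * x, s⁻¹ * y, by rw [Q_smul, hs]; field_simp⟩
  have hf : ∀ g h, f g = f h ↔ IsConj g h := by
    intro g h
    constructor
    · intro e
      by_cases hg : R g <;> by_cases hh : R h
      · simp only [f, if_pos hg, if_pos hh, Sum.inl.injEq] at e
        obtain ⟨x, y, hx⟩ := hg
        obtain ⟨x', y', hx'⟩ := hh
        exact sl_isConj_of_Q e (by rw [hx]; exact one_ne_zero) (hx.trans hx'.symm)
      · simp [f, if_pos hg, if_neg hh] at e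
      · simp [f, if_neg hg, if_pos hh] at e
      · simp only [f, if_neg hg, if_neg hh, Sum.inr.injEq, Prod.mk.injEq, decide_eq_decide] at e
        have ht : g.1.trace = h.1.trace := by
          rcases hR g hg with a | a <;> rcases hR h hh with b | b
          · rw [a, b]
          · exact absurd (b.symm.trans (e.2.1 a)) h22
          · exact absurd (a.symm.trans (e.2.2 b)) h22
          · rw [a, b]
        by_cases hs : IsScal g.1
        · have hs' := e.1.1 hs
          have : g = h := by
            apply sl_ext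
            have h00 : g.1 0 0 = h.1 0 0 := by
              rw [Matrix.trace_fin_two, Matrix.trace_fin_two, ← hs.2.2, ← hs'.2.2] at ht
              apply mul_left_cancel₀ h2
              linear_combination ht
            apply m2_ext h00 (hs.1.trans hs'.1.symm) (hs.2.1.trans hs'.2.1.symm)
            rw [← hs.2.2, ← hs'.2.2, h00]
          rw [this]
        · have hs' : ¬ IsScal h.1 := fun a => hs (e.1.2 a)
          obtain ⟨x, y, hx⟩ := exists_Q_ne_zero hs
          obtain ⟨x', y', hx'⟩ := exists_Q_ne_zero hs'
          obtain ⟨s, hs⟩ := isSquare_mul_of_not (hR' g hg x y hx) (hR' h hh x' y' hx')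
          refine sl_isConj_of_Q ht hx (x' := s / Q h.1 x' y' * x') (y' := s / Q h.1 x' y' * y') ?_
          rw [Q_smul]
          field_simp
          linear_combination hs
    · intro e
      have e1 : R g ↔ R h := ⟨Q_range_of_isConj e, Q_range_of_isConj e.symm⟩
      have e2 : IsScal g.1 ↔ IsScal h.1 := ⟨sl_isScal_of_isConj e, sl_isScal_of_isConj e.symm⟩
      simp only [f, e1, e2, sl_trace_of_isConj e]
  have hs : Function.Surjective f := by
    obtain ⟨ν, hν⟩ := exists_nonsquare h2
    have hν0 : ν ≠ 0 := by rintro rfl; exact hν IsSquare.zero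
    have hν' : ∀ y : F, ν * y ^ 2 ≠ 1 := fun y e => by
      have hy : y ≠ 0 := by rintro rfl; simp at e
      exact hν ⟨y⁻¹, by field_simp; linear_combination e⟩
    rintro (t | ⟨_ | _, _ | _⟩)
    · have : R (cmp t) := ⟨1, 0, by simp [Q, cmp_val]⟩
      exact ⟨cmp t, by simp only [f, if_pos this, trace_cmp]⟩
    · have : ¬ R (-upT ν) := by
        rintro ⟨x, y, e⟩
        rw [sl_neg_val, Q_neg, Q_upT] at e
        exact hν' y (by linear_combination e)
      refine ⟨-upT ν, ?_⟩
      simp only [f, if_neg this, sl_neg_val, isScal_neg, isScal_upT, hν0, Matrix.trace_neg, trace_upT, h22]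
      rfl
    · have : ¬ R (upT (-ν)) := by
        rintro ⟨x, y, e⟩
        rw [Q_upT] at e
        exact hν' y (by linear_combination e)
      refine ⟨upT (-ν), ?_⟩
      simp only [f, if_neg this, isScal_upT, neg_eq_zero, hν0, trace_upT]
      rfl
    · have : ¬ R (-1) := by
        rintro ⟨x, y, e⟩
        rw [Q_of_isScal (sl_isScal_iff.2 (Or.inr rfl))] at e
        exact zero_ne_one e
      refine ⟨-1, ?_⟩
      have h1 : IsScal (-1 : SLT F).1 := sl_isScal_iff.2 (Or.inr rfl)
      have h3 : (-1 : SLT F).1.trace ≠ 2 := by simpa using h22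
      simp only [f, if_neg this, h1, h3]
      rfl
    · have : ¬ R 1 := by
        rintro ⟨x, y, e⟩
        rw [Q_of_isScal (sl_isScal_iff.2 (Or.inl rfl))] at e
        exact zero_ne_one e
      refine ⟨1, ?_⟩
      have h1 : IsScal (1 : SLT F).1 := sl_isScal_iff.2 (Or.inl rfl)
      have h3 : (1 : SLT F).1.trace = 2 := by simp
      simp only [f, if_neg this, h1, h3]
      rfl
  rw [card_conjClasses_eq_of_invariant f hf, hs.range_eq, Nat.card_univ, Nat.card_eq_fintype_card]
  simp

end Cfsg.Agent.S2325
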