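import Cfsg.Statements.S2430
import Cfsg.Agent.SL2.Index

set_option autoImplicit false
open Cfsg

namespace Cfsg.Agent.S2430

open Cfsg.Agent.SL2

theorem key {F : Type*} [Field F] [Fintype F] (ℓ : ℕ) [Fact ℓ.Prime] (hℓ : ℓ ≠ 2)
    (P : Sylow ℓ (SLT F)) (hd : ℓ ∣ Fintype.card F - 1 ∨ ℓ ∣ Fintype.card F + 1) :
    ∃ x : SLT F, x.1.trace ^ 2 ≠ 4 ∧ orderOf x = ℓ ∧
      Subgroup.centralizer ((P : Subgroup (SLT F)) : Set (SLT F)) = Cen x ∧
      Subgroup.normalizer ((P : Subgroup (SLT F)) : Set (SLT F)) = NCen x := by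
  have hl : ℓ.Prime := Fact.out
  obtain ⟨p, hp⟩ := CharP.exists F
  have : Fact p.Prime := ⟨CharP.char_is_prime F p⟩
  have hne : ℓ ≠ p := by
    rintro rfl
    exact hd.elim (not_char_dvd_card_sub_one ℓ) (not_char_dvd_card_add_one ℓ)
  have hdiv : ℓ ∣ Nat.card (SLT F) := by
    rw [card_sl, sq_sub_one_eq]
    rcases hd with h | h
    · exact (h.mul_left _).mul_left _
    · exact (h.mul_right _).mul_left _
  have hP : Nontrivial P := by
    rw [Subgroup.nontrivial_iff_ne_bot]
    exact P.ne_bot_of_dvd_card hdiv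
  have hZ : Nontrivial (Subgroup.center P) := P.isPGroup'.center_nontrivial
  have hZ' : ℓ ∣ Nat.card (Subgroup.center P) := by
    obtain ⟨k, hk, e⟩ := (P.isPGroup'.to_subgroup (Subgroup.center P)).nontrivial_iff_card.1 hZ
    rw [e]; exact dvd_pow_self _ hk.ne'
  obtain ⟨z, hz⟩ := exists_prime_orderOf_dvd_card' ℓ hZ'
  have hx : orderOf ((z : P) : SLT F) = ℓ := by rw [Subgroup.orderOf_coe, Subgroup.orderOf_coe, hz]
  set x : SLT F := ((z : P) : SLT F) with hxdef
  have hl2 : 2 < ℓ := lt_of_le_of_ne hl.two_le (Ne.symm hℓ)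
  have hs : ¬ IsScal x.1 := not_isScal_of_orderOf (by omega)
  have hss : x.1.trace ^ 2 ≠ 4 := by
    intro h
    have h1 := orderOf_pr_of_par p h
    have h2 : orderOf (pr x) ∣ ℓ := by rw [← hx]; exact orderOf_map_dvd _ _
    have h3 : orderOf (pr x) ∣ 1 := by
      rw [← (Nat.coprime_primes hl Fact.out).2 hne]
      exact Nat.dvd_gcd h2 h1
    exact hs (pr_eq_one_iff.1 (orderOf_eq_one_iff.1 (Nat.dvd_one.1 h3)))
  have hxP : x ∈ (P : Subgroup (SLT F)) := (z : P).2
  have hPx : (P : Subgroup (SLT F)) ≤ Cen x := fun g hg =>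
    mem_cen.2 (congrArg Subtype.val (Subgroup.mem_center_iff.1 z.2 ⟨g, hg⟩))
  refine ⟨x, hss, hx, le_antisymm ?_ ?_, le_antisymm ?_ ?_⟩
  · exact Subgroup.centralizer_le (Set.singleton_subset_iff.2 hxP)
  · intro g hg
    rw [Subgroup.mem_centralizer_iff]
    intro h hh
    exact cent_comm hs (hPx hh) hg
  · intro g hg
    rw [mem_ncen_iff hss]
    exact eq_or_eq_inv_of_mem_cent hss (hPx ((Subgroup.mem_normalizer_iff.1 hg x).1 hxP))
      (sl_trace_conj g x)
  · intro g hg
    apply mem_normalizer_of_centralizes_or_inverts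
    rcases (mem_ncen_iff hss).1 hg with h | h
    · left
      intro y hy
      rw [cent_comm hs (mem_cen'.2 h) (hPx hy), mul_inv_cancel_right]
    · right
      intro y hy
      exact inv_of_inverts hs h (hPx hy)

/-- Let F be a finite field with q elements, q odd, ℓ an odd prime, and P a Sylow ℓ-subgroup of SL₂ over F. If ℓ divides q − 1, the centraliser of P is cyclic of order q − 1 (a split torus) and the normaliser of P has order 2(q − 1); if ℓ divides q + 1, the centraliser of P is cyclic of order q + 1 (a non-split torus) and the normaliser of P has order 2(q + 1). -/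
theorem result {F : Type*} [Field F] [Fintype F] (hodd : Odd (Fintype.card F)) (ℓ : ℕ) [Fact ℓ.Prime] (hℓ : ℓ ≠ 2)
    (P : Sylow ℓ (Matrix.SpecialLinearGroup (Fin 2) F)) :
    (ℓ ∣ Fintype.card F - 1 →
      Nat.card (Subgroup.centralizer ((P : Subgroup (Matrix.SpecialLinearGroup (Fin 2) F)) : Set (Matrix.SpecialLinearGroup (Fin 2) F))) = Fintype.card F - 1 ∧
      IsCyclic (Subgroup.centralizer ((P : Subgroup (Matrix.SpecialLinearGroup (Fin 2) F)) : Set (Matrix.SpecialLinearGroup (Fin 2) F))) ∧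
      Nat.card (Subgroup.normalizer ((P : Subgroup (Matrix.SpecialLinearGroup (Fin 2) F)) : Set (Matrix.SpecialLinearGroup (Fin 2) F))) = 2 * (Fintype.card F - 1)) ∧
    (ℓ ∣ Fintype.card F + 1 →
      Nat.card (Subgroup.centralizer ((P : Subgroup (Matrix.SpecialLinearGroup (Fin 2) F)) : Set (Matrix.SpecialLinearGroup (Fin 2) F))) = Fintype.card F + 1 ∧
      IsCyclic (Subgroup.centralizer ((P : Subgroup (Matrix.SpecialLinearGroup (Fin 2) F)) : Set (Matrix.SpecialLinearGroup (Fin 2) F))) ∧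
      Nat.card (Subgroup.normalizer ((P : Subgroup (Matrix.SpecialLinearGroup (Fin 2) F)) : Set (Matrix.SpecialLinearGroup (Fin 2) F))) = 2 * (Fintype.card F + 1)) := by
  have hl : ℓ.Prime := Fact.out
  have hq : 1 < Fintype.card F := Fintype.one_lt_card
  have hboth : ℓ ∣ Fintype.card F - 1 → ℓ ∣ Fintype.card F + 1 → False := by
    intro h1 h2
    have : Fintype.card F + 1 = (Fintype.card F - 1) + 2 := by omega
    rw [this] at h2
    exact hℓ ((Nat.prime_dvd_prime_iff_eq hl Nat.prime_two).1 ((Nat.dvd_add_right h1).1 h2))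
  constructor
  · intro h
    obtain ⟨x, hs, ho, h1, h2⟩ := key ℓ hℓ P (Or.inl h)
    have hspl : Spl x.1.trace 1 := (ell_or_spl_one hs).resolve_left fun e =>
      hboth h (by rw [← ho]; exact orderOf_dvd_of_pow_eq_one (pow_of_ell e))
    rw [h1, h2]
    exact ⟨card_cent_spl hspl, isCyclic_cent hs, by rw [card_ncen hs, card_cent_spl hspl]⟩
  · intro h
    obtain ⟨x, hs, ho, h1, h2⟩ := key ℓ hℓ P (Or.inr h)
    have hell : Ell x.1.trace 1 := (ell_or_spl_one hs).resolve_right fun e =>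
      hboth (by rw [← ho]; exact orderOf_dvd_of_pow_eq_one (pow_of_spl e)) h
    rw [h1, h2]
    exact ⟨card_cent_ell hell, isCyclic_cent hs, by rw [card_ncen hs, card_cent_ell hell]⟩

end Cfsg.Agent.S2430
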