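import Cfsg.Statements.S2437
import Cfsg.Agent.SL2.Elem

set_option autoImplicit false
open Cfsg

namespace Cfsg.Agent.S2437

open Cfsg.Agent.SL2

theorem mem_B {F : Type*} [Field F] (g : SLT F) :
    g ∈ (Cfsg.upperTriangularGL 2 F).comap Matrix.SpecialLinearGroup.toGL ↔ g.1 1 0 = 0 := by
  rw [Subgroup.mem_comap]
  change g.1.BlockTriangular id ↔ _
  constructor
  · intro h; exact h (by decide : id (0 : Fin 2) < id 1)
  · intro h i j hij
    fin_cases i <;> fin_cases j <;> simp_all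

theorem isConj_B {F : Type*} [Field F]
    (g h : (Cfsg.upperTriangularGL 2 F).comap Matrix.SpecialLinearGroup.toGL) :
    IsConj g h ↔ g.1.1 0 0 = h.1.1 0 0 ∧ ∃ s r : F, s ≠ 0 ∧
      h.1.1 0 1 = s ^ 2 * g.1.1 0 1 + r * (g.1.1 1 1 - g.1.1 0 0) := by
  have g0 := (mem_B _).1 g.2
  have h0 := (mem_B _).1 h.2
  have gd := sl_det g.1
  have hd := sl_det h.1
  rw [g0] at gd
  rw [h0] at hd
  rw [isConj_iff]
  constructor
  · rintro ⟨c, e⟩
    rw [mul_inv_eq_iff_eq_mul] at e
    have e' : c.1.1 * g.1.1 = h.1.1 * c.1.1 := congrArg (fun x => x.1.1) e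
    have c0 := (mem_B _).1 c.2
    have cd := sl_det c.1
    rw [c0] at cd
    rw [m2_ext_iff] at e'
    simp only [mul_ap, g0, h0, c0] at e'
    obtain ⟨e1, e2, -, e4⟩ := e'
    have hc : c.1.1 0 0 ≠ 0 := by rintro e; simp [e] at cd
    have h00 : g.1.1 0 0 = h.1.1 0 0 := by
      apply mul_left_cancel₀ hc; linear_combination e1
    refine ⟨h00, c.1.1 0 0, c.1.1 0 0 * c.1.1 0 1, hc, ?_⟩
    linear_combination (-c.1.1 0 0) * e2 - h.1.1 0 1 * cd + c.1.1 0 0 * c.1.1 0 1 * h00
  · rintro ⟨h00, s, r, hs, e⟩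
    have h11 : g.1.1 1 1 = h.1.1 1 1 := by
      have : g.1.1 0 0 ≠ 0 := by rintro e; simp [e] at gd
      apply mul_left_cancel₀ this
      linear_combination gd - hd - h.1.1 1 1 * h00
    refine ⟨⟨mkSL !![s, r / s; 0, s⁻¹] (by simp [Matrix.det_fin_two, hs]), (mem_B _).2 (by simp)⟩, ?_⟩
    rw [mul_inv_eq_iff_eq_mul]
    apply Subtype.ext
    apply sl_ext
    change !![s, r / s; 0, s⁻¹] * g.1.1 = h.1.1 * !![s, r / s; 0, s⁻¹]
    apply m2_ext <;> simp [mul_ap, g0, h0, h00, h11, mul_comm]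
    rw [e]
    field_simp
    rw [h00, h11]
    ring

/-- Over a finite field F with q elements, q odd, the upper triangular subgroup of SL₂ (a Borel subgroup, of order q(q − 1)) has exactly q + 3 conjugacy classes. -/
theorem result {F : Type*} [Field F] [Fintype F] (hodd : Odd (Fintype.card F)) :
    Nat.card (ConjClasses ((Cfsg.upperTriangularGL 2 F).comap Matrix.SpecialLinearGroup.toGL)) = Fintype.card F + 3 := by
  classical
  have h2 : (2 : F) ≠ 0 := two_ne_zero_of_odd hodd
  have h11 : (-1 : F) ≠ 1 := fun e => h2 (by linear_combination -e)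
  have hd : ∀ g : (Cfsg.upperTriangularGL 2 F).comap Matrix.SpecialLinearGroup.toGL,
      g.1.1 0 0 * g.1.1 1 1 = 1 := fun g => by
    have := sl_det g.1
    rw [(mem_B _).1 g.2] at this
    linear_combination this
  have h0 : ∀ g : (Cfsg.upperTriangularGL 2 F).comap Matrix.SpecialLinearGroup.toGL,
      g.1.1 0 0 ≠ 0 := fun g => left_ne_zero_of_mul_eq_one (hd g)
  let f : (Cfsg.upperTriangularGL 2 F).comap Matrix.SpecialLinearGroup.toGL → Fˣ ⊕ (Bool × Bool) :=
    fun g => if g.1.1 0 0 = g.1.1 1 1 ∧ g.1.1 0 1 ≠ 0 then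
      Sum.inr (decide (g.1.1 0 0 = 1), decide (IsSquare (g.1.1 0 1))) else Sum.inl (Units.mk0 _ (h0 g))
  have h11' : ∀ g h : (Cfsg.upperTriangularGL 2 F).comap Matrix.SpecialLinearGroup.toGL,
      g.1.1 0 0 = h.1.1 0 0 → g.1.1 1 1 = h.1.1 1 1 := fun g h e => by
    apply mul_left_cancel₀ (h0 g)
    rw [hd g, e, hd h]
  have hf : ∀ g h, f g = f h ↔ IsConj g h := by
    intro g h
    rw [isConj_B]
    constructor
    · intro e
      by_cases hg : g.1.1 0 0 = g.1.1 1 1 ∧ g.1.1 0 1 ≠ 0 <;>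
        by_cases hh : h.1.1 0 0 = h.1.1 1 1 ∧ h.1.1 0 1 ≠ 0
      · simp only [f, if_pos hg, if_pos hh, Sum.inr.injEq, Prod.mk.injEq, decide_eq_decide] at e
        have a := hd g
        have b := hd h
        rw [← hg.1, mul_self_eq_one_iff] at a
        rw [← hh.1, mul_self_eq_one_iff] at b
        constructor
        · rcases a with a | a <;> rcases b with b | b
          · rw [a, b]
          · exact absurd (b.symm.trans (e.1.1 a)) h11
          · exact absurd (a.symm.trans (e.1.2 b)) h11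
          · rw [a, b]
        · have : IsSquare (g.1.1 0 1 * h.1.1 0 1) := by
            by_cases hs : IsSquare (g.1.1 0 1)
            · exact hs.mul (e.2.1 hs)
            · exact isSquare_mul_of_not hs (fun a => hs (e.2.2 a))
          obtain ⟨s, hs⟩ := this
          have hs0 : s ≠ 0 := by
            rintro rfl
            exact mul_ne_zero hg.2 hh.2 (by simpa using hs)
          refine ⟨s / g.1.1 0 1, 0, div_ne_zero hs0 hg.2, ?_⟩
          have := hg.2
          field_simp
          linear_combination hs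
      · simp [f, if_pos hg, if_neg hh] at e
      · simp [f, if_neg hg, if_pos hh] at e
      · simp only [f, if_neg hg, if_neg hh, Sum.inl.injEq, Units.mk0_inj] at e
        refine ⟨e, ?_⟩
        by_cases h1 : g.1.1 0 0 = g.1.1 1 1
        · have h1' : h.1.1 0 0 = h.1.1 1 1 := by rw [← e, ← h11' g h e, h1]
          have a : g.1.1 0 1 = 0 := by tauto
          have b : h.1.1 0 1 = 0 := by tauto
          exact ⟨1, 0, one_ne_zero, by simp [a, b]⟩
        · have : g.1.1 1 1 - g.1.1 0 0 ≠ 0 := sub_ne_zero.2 (Ne.symm h1)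
          refine ⟨1, (h.1.1 0 1 - g.1.1 0 1) / (g.1.1 1 1 - g.1.1 0 0), one_ne_zero, ?_⟩
          field_simp
          ring
    · rintro ⟨e, s, r, hs, e'⟩
      have e1 := h11' g h e
      by_cases h1 : g.1.1 0 0 = g.1.1 1 1
      · have h1' : h.1.1 0 0 = h.1.1 1 1 := by rw [← e, ← e1, h1]
        rw [h1, sub_self, mul_zero, add_zero] at e'
        have a : h.1.1 0 1 ≠ 0 ↔ g.1.1 0 1 ≠ 0 := by simp [e', hs]
        have b : IsSquare (h.1.1 0 1) ↔ IsSquare (g.1.1 0 1) := by
          rw [e']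
          constructor
          · rintro ⟨u, hu⟩
            exact ⟨u / s, by field_simp; linear_combination hu⟩
          · rintro ⟨u, hu⟩
            exact ⟨u * s, by rw [hu]; ring⟩
        by_cases c : g.1.1 0 1 ≠ 0
        · simp only [f, if_pos (And.intro h1 c), if_pos (And.intro h1' (a.2 c)), b, e]
        · have c' : ¬ (g.1.1 0 0 = g.1.1 1 1 ∧ g.1.1 0 1 ≠ 0) := fun x => c x.2
          have c'' : ¬ (h.1.1 0 0 = h.1.1 1 1 ∧ h.1.1 0 1 ≠ 0) := fun x => c (a.1 x.2)
          simp only [f, if_neg c', if_neg c'', Sum.inl.injEq, Units.mk0_inj, e]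
      · have c' : ¬ (g.1.1 0 0 = g.1.1 1 1 ∧ g.1.1 0 1 ≠ 0) := fun x => h1 x.1
        have c'' : ¬ (h.1.1 0 0 = h.1.1 1 1 ∧ h.1.1 0 1 ≠ 0) := fun x => h1 (by rw [e, e1, x.1])
        simp only [f, if_neg c', if_neg c'', Sum.inl.injEq, Units.mk0_inj, e]
  have hs : Function.Surjective f := by
    obtain ⟨ν, hν⟩ := exists_nonsquare h2
    have hν0 : ν ≠ 0 := by rintro rfl; exact hν IsSquare.zero
    have key : ∀ a b : F, a * a = 1 → b ≠ 0 → ∃ g, f g = Sum.inr (decide (a = 1), decide (IsSquare b)) := by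
      intro a b ha hb
      refine ⟨⟨mkSL !![a, b; 0, a] (by simp [Matrix.det_fin_two, ha]), (mem_B _).2 (by simp)⟩, ?_⟩
      simp [f, hb]
    rintro (a | ⟨_ | _, _ | _⟩)
    · refine ⟨⟨dg a, (mem_B _).2 (by simp [dg_val])⟩, ?_⟩
      simp [f, dg_val]
    · simpa [h11, hν] using key (-1) ν (by ring) hν0
    · simpa [h11] using key (-1) 1 (by ring) one_ne_zero
    · simpa [hν] using key 1 ν (by ring) hν0
    · simpa using key 1 1 (by ring) one_ne_zero
  rw [card_conjClasses_eq_of_invariant f hf, hs.range_eq, Nat.card_univ, Nat.card_sum, Nat.card_units,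
    Nat.card_eq_fintype_card]
  have := Fintype.card_pos (α := F)
  simp
  omega

end Cfsg.Agent.S2437
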