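import Cfsg.Statements.S2431
import Cfsg.Agent.GL2Char.McKay
import Cfsg.Agent.SL2.Quat

set_option autoImplicit false
open Cfsg

namespace Cfsg.Agent.S2431

open Cfsg.Agent.SL2

variable {F : Type*} [Field F]

theorem two_elt_mem (S : Sylow 2 (SLT F)) {s : SLT F} (hs : s.1.trace ^ 2 ≠ 4)
    (hS : (S : Subgroup (SLT F)) ≤ NCen s) {y : SLT F} (hy : y ∈ Cen s) {k : ℕ} (h : y ^ 2 ^ k = 1) :
    y ∈ (S : Subgroup (SLT F)) := by
  have hs' := sl_not_isScal_of_disc hs
  have hle : Subgroup.zpowers y ≤ Cen s := (Subgroup.zpowers_le_of_mem hy)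
  have h1 : IsPGroup 2 (Subgroup.zpowers y) := by
    rintro ⟨_, n, rfl⟩
    refine ⟨k, Subtype.ext ?_⟩
    change (y ^ n) ^ 2 ^ k = 1
    rw [← zpow_natCast, ← zpow_mul, mul_comm, zpow_mul, zpow_natCast, h, one_zpow]
  have h2 : (S : Subgroup (SLT F)) ≤ Subgroup.normalizer (Subgroup.zpowers y : Set (SLT F)) := by
    intro g hg
    refine mem_normalizer_of_centralizes_or_inverts ?_
    by_cases hc : g ∈ Cen s
    · exact Or.inl fun x hx => by rw [cent_comm hs' hc (hle hx), mul_inv_cancel_right]
    · exact Or.inr fun x hx => inv_of_inverts hs' (inverts_of_mem_ncen hs (hS hg) hc) (hle hx)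
  rw [← S.is_maximal' (S.isPGroup'.to_sup_of_normal_right' h1 h2) le_sup_left]
  exact Subgroup.mem_sup_right (Subgroup.mem_zpowers y)


/-- Let F be a finite field with q elements, q odd, and S a Sylow 2-subgroup of SL₂ over F. The centraliser of S is the centre of SL₂ (of order 2); S is its own normaliser when q ≡ ±1 mod 8, and has index 3 in its normaliser when q ≡ ±3 mod 8. -/
theorem result {F : Type*} [Field F] [Fintype F] (hodd : Odd (Fintype.card F)) (S : Sylow 2 (Matrix.SpecialLinearGroup (Fin 2) F)) :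
    Subgroup.centralizer ((S : Subgroup (Matrix.SpecialLinearGroup (Fin 2) F)) : Set (Matrix.SpecialLinearGroup (Fin 2) F)) = Subgroup.center (Matrix.SpecialLinearGroup (Fin 2) F) ∧
    ((Fintype.card F % 8 = 1 ∨ Fintype.card F % 8 = 7) →
      Subgroup.normalizer ((S : Subgroup (Matrix.SpecialLinearGroup (Fin 2) F)) : Set (Matrix.SpecialLinearGroup (Fin 2) F)) = (S : Subgroup (Matrix.SpecialLinearGroup (Fin 2) F))) ∧
    ((Fintype.card F % 8 = 3 ∨ Fintype.card F % 8 = 5) →
      Nat.card (Subgroup.normalizer ((S : Subgroup (Matrix.SpecialLinearGroup (Fin 2) F)) : Set (Matrix.SpecialLinearGroup (Fin 2) F))) = 3 * Nat.card S) := by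
  have h2 := two_ne_zero_of_odd hodd
  obtain ⟨s, hs0, hS⟩ := GL2Char.exists_sylow_two_le_ncen hodd S
  have hs := disc_of_trace_zero h2 hs0
  have hs' := sl_not_isScal_of_disc hs
  have hnle : ¬ (S : Subgroup (SLT F)) ≤ Cen s := fun h =>
    S.not_dvd_index ((Dvd.intro _ (two_mul_index_ncen hs)).trans (Subgroup.index_dvd_of_le h))
  obtain ⟨w, hw, hw'⟩ := SetLike.not_le_iff_exists.mp hnle
  have hw2 := inverts_of_mem_ncen hs (hS hw) hw'
  have hsS : s ∈ (S : Subgroup (SLT F)) :=
    two_elt_mem S hs hS (self_mem_cent s) (k := 2) (pow_four_of_trace_zero hs0)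
  have hQ : QPair s w := ⟨h2, hs0, hw2⟩
  refine ⟨le_antisymm (fun g hg => ?_) (Subgroup.center_le_centralizer _), fun h => ?_, fun h => ?_⟩
  · rw [Subgroup.mem_centralizer_iff] at hg
    have h1 := inv_of_inverts hs' hw2 (mem_cen.2 (hg s hsS).symm)
    rw [hg w hw, mul_inv_cancel_right] at h1
    exact sl_mem_center_iff.2 (isScal_of_sq_eq_one h2 (by nth_rw 2 [h1]; exact mul_inv_cancel g))
  · obtain ⟨r, hr⟩ : IsSquare (2 : F) := FiniteField.isSquare_two_iff.2 (by omega)
    have hr0 : r ≠ 0 := by rintro rfl; exact h2 (by simpa using hr)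
    let y : SLT F := mkSL (r⁻¹ • (1 : M2 F) + r⁻¹ • s.1) (by
      rw [det_comb, s.2, hs0]; field_simp; linear_combination hr)
    have hy : y ∈ Cen s := mem_cent_sl.2 (comm_of_eq _ _)
    have hty : y.1.trace ≠ 0 := by
      rw [mkSL_val, trace_comb, hs0]; simp [h2, hr0]
    have hyy : y * y = s := by
      apply sl_ext
      have e1 : s.1 * s.1 = -1 := congrArg Subtype.val hQ.ss
      rw [sl_mul_val, mkSL_val]
      simp only [add_mul, mul_add, smul_mul_assoc, mul_smul_comm, e1, one_mul, mul_one]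
      match_scalars
      · ring
      · field_simp; linear_combination hr
    have hyS : y ∈ (S : Subgroup (SLT F)) := two_elt_mem S hs hS hy (k := 3) (by
      rw [show 2 ^ 3 = 2 * 4 from rfl, pow_mul, sq, hyy, pow_four_of_trace_zero hs0])
    have key : ∀ g ∈ Subgroup.normalizer ((S : Subgroup (SLT F)) : Set (SLT F)), g ∈ Cen s →
        g ∈ (S : Subgroup (SLT F)) := fun g hg hc => by
      have h1 := mul_mem ((Subgroup.mem_normalizer_iff.1 hg w).1 hw) (inv_mem hw)
      have h3 : g * w * g⁻¹ * w⁻¹ = g * g := by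
        have := inv_of_inverts hs' hw2 (inv_mem hc)
        rw [inv_inv] at this
        calc g * w * g⁻¹ * w⁻¹ = g * (w * g⁻¹ * w⁻¹) := by group
          _ = g * g := by rw [this]
      rw [h3] at h1
      obtain ⟨k, hk⟩ := S.isPGroup' ⟨_, h1⟩
      refine two_elt_mem S hs hS hc (k := k + 1) ?_
      rw [pow_succ', pow_mul, sq]
      exact congrArg Subtype.val hk
    refine le_antisymm (fun g hg => ?_) Subgroup.le_normalizer
    have h1 : g * y * g⁻¹ ∈ Cen s := by
      by_contra hc
      have := trace_eq_zero_of_inverts hs (inverts_of_mem_ncen hs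
        (hS ((Subgroup.mem_normalizer_iff.1 hg y).1 hyS)) hc)
      rw [sl_trace_conj] at this
      exact hty this
    have h3 : g * s * g⁻¹ ∈ Cen s := by
      rw [← hyy]
      have := mul_mem h1 h1
      rw [hyy]
      convert this using 1
      rw [← hyy]; group
    rcases eq_or_eq_inv_of_mem_cent hs h3 (sl_trace_conj _ _) with e | e
    · exact key g hg (mem_cen'.2 e)
    · have := key (g * w) (mul_mem hg (Subgroup.le_normalizer hw)) (mul_mem_cen_of_inverts hw2 e)
      simpa using mul_mem this (inv_mem hw)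
  · have hns : ¬ IsSquare (2 : F) := fun h' => by
      have := FiniteField.isSquare_two_iff.1 h'; omega
    have key : ∀ x ∈ (S : Subgroup (SLT F)), x ∈ Cen s → x ∈ q8 s w := fun x hx hc => by
      obtain ⟨k, hk⟩ := S.isPGroup' ⟨_, hx⟩
      rw [hQ.mem_iff]
      rcases pow_two_pow_cases hns hs0 hc (congrArg Subtype.val hk) with e | e | e | e <;> simp [e]
    have e : (S : Subgroup (SLT F)) = q8 s w := by
      refine le_antisymm (fun x hx => ?_) ((Subgroup.closure_le _).2 ?_)
      · by_cases hc : x ∈ Cen s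
        · exact key x hx hc
        · have := key (x * w) (mul_mem hx hw)
            (mul_mem_cen_of_inverts hw2 (inverts_of_mem_ncen hs (hS hx) hc))
          simpa using mul_mem this (inv_mem (right_mem_q8 s w))
      · rintro _ (rfl | rfl)
        exacts [hsS, hw]
    change Nat.card (Subgroup.normalizer ((S : Subgroup (SLT F)) : Set (SLT F))) =
      3 * Nat.card (S : Subgroup (SLT F))
    rw [e]
    exact hQ.card_normalizer hns

end Cfsg.Agent.S2431
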