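import Cfsg.Statements.S2508
import Cfsg.Agent.SL2.Index

set_option autoImplicit false
open Cfsg

namespace Cfsg.Agent.S2508

open Cfsg.Agent.SL2

/-- Let F be a finite field with q elements, q odd and q ≥ 7. If q ≡ 1 (mod 4) the conjugacy class sizes of PSL(2,F) are exactly 1, (q² − 1)/2, q(q + 1)/2, q(q − 1) and q(q + 1); if q ≡ 3 (mod 4) they are exactly 1, (q² − 1)/2, q(q − 1)/2, q(q + 1) and q(q − 1). -/
theorem result {F : Type*} [Field F] [Fintype F]
    (hodd : ¬ 2 ∣ Fintype.card F) (h7 : 7 ≤ Fintype.card F) :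
    (Fintype.card F % 4 = 1 →
      Set.range (fun g : (Matrix.ProjectiveSpecialLinearGroup (Fin 2) F) => (Subgroup.centralizer ({g} : Set (Matrix.ProjectiveSpecialLinearGroup (Fin 2) F))).index) =
        {1, (Fintype.card F ^ 2 - 1) / 2, Fintype.card F * (Fintype.card F + 1) / 2,
          Fintype.card F * (Fintype.card F - 1), Fintype.card F * (Fintype.card F + 1)}) ∧
    (Fintype.card F % 4 = 3 →
      Set.range (fun g : (Matrix.ProjectiveSpecialLinearGroup (Fin 2) F) => (Subgroup.centralizer ({g} : Set (Matrix.ProjectiveSpecialLinearGroup (Fin 2) F))).index) =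
        {1, (Fintype.card F ^ 2 - 1) / 2, Fintype.card F * (Fintype.card F - 1) / 2,
          Fintype.card F * (Fintype.card F + 1), Fintype.card F * (Fintype.card F - 1)}) := by
  have h2 : (2 : F) ≠ 0 := fun e => hodd (even_of_two_eq_zero e)
  have hA : ∀ x : PSLT F, (Subgroup.centralizer ({x} : Set (PSLT F))).index = 1 ∨
      (Subgroup.centralizer ({x} : Set (PSLT F))).index = (Fintype.card F ^ 2 - 1) / 2 ∨
      (Subgroup.centralizer ({x} : Set (PSLT F))).index = (Cen (wS : SLT F)).index / 2 ∨
      (Subgroup.centralizer ({x} : Set (PSLT F))).index = Fintype.card F * (Fintype.card F - 1) ∨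
      (Subgroup.centralizer ({x} : Set (PSLT F))).index = Fintype.card F * (Fintype.card F + 1) := by
    intro x
    obtain ⟨g, rfl⟩ := pr_surjective x
    by_cases hs : IsScal g.1
    · exact Or.inl (index_cent_pr_of_isScal hs)
    right
    by_cases h0 : g.1.trace = 0
    · right; left
      rw [index_cent_pr_of_trace_zero h2 h0]
      rcases ell_or_spl_one (disc_of_trace_zero h2 h0) with h | h
      · rw [index_cen_ell h, index_cen_ell (by rwa [trace_wS, ← h0])]
      · rw [index_cen_spl h, index_cen_spl (by rwa [trace_wS, ← h0])]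
    rw [index_cent_pr_of_trace_ne (Or.inl h0)]
    by_cases hg : g.1.trace ^ 2 = 4
    · exact Or.inl (index_cen_par_odd h2 hs hg)
    · rcases ell_or_spl_one hg with h | h
      · exact Or.inr (Or.inr (Or.inl (index_cen_ell h)))
      · exact Or.inr (Or.inr (Or.inr (index_cen_spl h)))
  have h1 : ∃ x : PSLT F, (Subgroup.centralizer ({x} : Set (PSLT F))).index = 1 :=
    ⟨pr 1, index_cent_pr_of_isScal isScal_one⟩
  have h3 : ∃ x : PSLT F, (Subgroup.centralizer ({x} : Set (PSLT F))).index =
      (Fintype.card F ^ 2 - 1) / 2 := ⟨pr (upT 1), by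
    rw [index_cent_pr_of_trace_ne (Or.inl (by rw [trace_upT]; exact h2)),
      index_cen_par_odd h2 (by simp [isScal_upT]) (by rw [trace_upT]; norm_num)]⟩
  have h4 : ∃ x : PSLT F, (Subgroup.centralizer ({x} : Set (PSLT F))).index =
      (Cen (wS : SLT F)).index / 2 := ⟨pr wS, index_cent_pr_of_trace_zero h2 trace_wS⟩
  have h5 : ∃ x : PSLT F, (Subgroup.centralizer ({x} : Set (PSLT F))).index =
      Fintype.card F * (Fintype.card F - 1) := by
    obtain ⟨s, hs, ho⟩ := exists_ell_generator (F := F)
    exact ⟨pr s, by rw [index_cent_pr_of_trace_ne (Or.inl (trace_ne_zero_of_orderOf (by omega))),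
      index_cen_ell hs]⟩
  have h6 : ∃ x : PSLT F, (Subgroup.centralizer ({x} : Set (PSLT F))).index =
      Fintype.card F * (Fintype.card F + 1) := by
    obtain ⟨s, hs, ho⟩ := exists_spl_generator (F := F) (by omega)
    exact ⟨pr s, by rw [index_cent_pr_of_trace_ne (Or.inl (trace_ne_zero_of_orderOf (by omega))),
      index_cen_spl hs]⟩
  constructor
  · intro hq
    rw [index_cen_spl (by rw [trace_wS]; exact (spl_zero_iff h2).2 hq)] at hA h4
    ext m
    simp only [Set.mem_range, Set.mem_insert_iff, Set.mem_singleton_iff]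
    constructor
    · rintro ⟨x, rfl⟩
      exact hA x
    · rintro (rfl | rfl | rfl | rfl | rfl) <;> assumption
  · intro hq
    rw [index_cen_ell (by rw [trace_wS]; exact (ell_zero_iff h2).2 hq)] at hA h4
    ext m
    simp only [Set.mem_range, Set.mem_insert_iff, Set.mem_singleton_iff]
    constructor
    · rintro ⟨x, rfl⟩
      have := hA x
      tauto
    · rintro (rfl | rfl | rfl | rfl | rfl) <;> assumption

end Cfsg.Agent.S2508
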