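import Cfsg.Statements.S2037
import Cfsg.Agent.Mult.Split
import Cfsg.Agent.Gol.Cert

set_option autoImplicit false
open Cfsg

namespace Cfsg.Agent.S2037

open Cfsg.Agent.CGT Cfsg.Agent.Mult Cfsg.Agent.Gol
set_option maxRecDepth 100000

def u2_D : PC := ⟨2, 7, 2, 18,
  [[0, 0x44, 0x110, 0x40, 0x100, 0x1400, 0x1000], [0, 0x40, 0x150, 0x40, 0x1500, 0x1400, 0x1000], [0, 0, 0x1500, 0x440, 0x1100, 0x1400, 0x1000], [0, 0, 0, 0, 0x1100, 0x400, 0x1000], [0, 0, 0, 0, 0, 0x400, 0x1000], [0, 0, 0, 0, 0, 0, 0x1000], [0, 0, 0, 0, 0, 0, 0]],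
  [0x30f, 0xf3, 0x3f, 3, 0, 0, 0],
  [(7, 0x14, 0x414), (7, 0x40, 0x445), (7, 0x100, 0x151), (7, 0x1000, 0x1000), (8, 1, 0x100), (8, 0x40, 0x1400), (9, 0x100, 0x1000)], 19, 0x40000050302000000000100000000060000⟩
def u2_ds : List (List ℕ) := [[2, 0, 6, 0, 4], [6, 10, 1, 2, 6, 2, 6], [6, 0, 2, 12, 10, 2, 1, 2, 6, 2], [2, 10, 6, 2, 10, 6, 2], [12, 6, 2, 6, 10, 2, 6, 12], [2, 10, 4, 6, 4, 10, 2], [6, 4, 10, 2, 0, 4, 1, 10], [8, 4, 6, 10, 12, 0, 8, 12, 8], [6, 10, 12, 0, 4, 6, 0, 2], [4, 12, 2, 10, 0, 2, 12]]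
def u2_c : Mult.Cert := ⟨35, 16, [[], [], [], [1], [2], [17], [5]],
  [],
  [[0x210005, 0, 0, 0x14c2182, 0x250001, 0, 0x800000], [0, 0x1b2c45, 0x5b0d98, 0x1000000, 0x440483, 0x14f6d80, 0x15e4180], [0, 0, 0x2f1425, 0, 0x729600, 0x12e2780, 0x16d3180], [0, 0, 0, 0x1442182, 0x15d2580, 0x17f0180, 0x400000], [0, 0, 0, 0, 0x210001, 0x16c2180, 0x200000], [0, 0, 0, 0, 0, 0x17d0180, 0x100000], [0, 0, 0, 0, 0, 0, 0x210000]]⟩
theorem u2_all : allB u2_D u2_c [.assoc 4 4 4, .assoc 0x100 0x40 1, .assoc 0x400 0x40 1, .assoc 0x400 0x100 1, .assoc 0x400 0x100 0x40, .assoc 4 1 1, .assoc 0x10 1 1, .assoc 0x40 0x40 0x10, .assoc 0x100 0x100 0x10, .assoc 0x10 0x10 0x10, .assoc 0x400 4 4, .assoc 0x100 0x100 4, .assoc 0x100 0x10 0x10, .assoc 0x100 4 4, .assoc 0x40 0x10 1, .assoc 0x40 0x10 0x10, .assoc 0x10 4 4, .assoc 0x10 4 1, .fus 7 [1, 1] [], .fus 7 [2, 2] [], .fus 7 [0, 0] [3], .fus 7 [2, 1] [1, 2, 3], .fus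 8 [4, 4] [], .fus 8 [5, 4] [4, 5], .fus 9 [6, 6] []] 5 m23_ts u2_ds [6, 5, 4, 3, 2, 1] [(14, [0x10]), (1, [0x100, 0x14]), (2, [0x1000, 0x400, 0x40, 5])] = true := by decide +kernel
theorem u2_pb {G : Type*} [Group G] [Finite G] {φ : G →* Equiv.Perm ℕ} {γ : ℕ → G}
    (M : Model φ γ 5 m23_ns m23_ts) (hB : IsBase φ ⊤ [6, 5, 4, 3, 2, 1]) (hN : Nat.card G = 10200960) : PBound G 2 0 :=
  pbound_all M hB hN (by decide +kernel) (by decide +kernel) u2_all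
def u3_D : PC := ⟨3, 2, 2, 17,
  [[0, 4], [0, 0]],
  [0, 0],
  [(2, 1, 6), (2, 4, 4), (3, 1, 4)], 5, 0x10001⟩
def u3_ds : List (List ℕ) := [[8, 2, 6, 0, 8, 12, 2, 10, 1, 4], [10, 12, 1, 8, 0, 10, 12, 2, 10], [10, 6, 12, 8, 4, 1, 4, 2, 10, 12, 1], [6, 2, 8, 10, 0, 4, 6, 2, 4]]
def u3_c : Mult.Cert := ⟨14, 15, [[], []],
  [],
  [[7, 9], [0, 8]]⟩
theorem u3_all : allB u3_D u3_c [.fus 2 [1, 0] [0, 1], .fus 2 [0, 0, 0] [], .fus 3 [2, 2, 2] []] 5 m23_ts u3_ds [6, 5, 4, 3, 2, 1] [(2, [4]), (1, [5])] = true := by decide +kernel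
theorem u3_pb {G : Type*} [Group G] [Finite G] {φ : G →* Equiv.Perm ℕ} {γ : ℕ → G}
    (M : Model φ γ 5 m23_ns m23_ts) (hB : IsBase φ ⊤ [6, 5, 4, 3, 2, 1]) (hN : Nat.card G = 10200960) : PBound G 3 0 :=
  pbound_all M hB hN (by decide +kernel) (by decide +kernel) u3_all

/-- The Schur multiplier of the Mathieu group M₂₃ (the stabiliser of a point in the automorphism group of the length-24 binary code) is trivial; here the Schur multiplier is described through stem extensions, as in the definitions: surjective homomorphisms onto the group from a finite group, whose kernel is central in that finite group and contained in that finite group's commutator subgroup. -/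
theorem result : Cfsg.HasCyclicSchurMultiplier ↥Cfsg.Spor.M23 1 := by
  haveI := m23_cert.fin
  exact triv_of_bounds m23_card [(2, 7), (3, 2), (5, 1), (7, 1), (11, 1), (23, 1)] (by decide +kernel) (by decide +kernel) (by
    simp only [List.forall_mem_cons, List.not_mem_nil, IsEmpty.forall_iff, implies_true, and_true]
    exact ⟨.inr (u2_pb m23_cert.M m23_cert.base m23_card),
      .inr (u3_pb m23_cert.M m23_cert.base m23_card),
      .inl (by decide),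
      .inl (by decide),
      .inl (by decide),
      .inl (by decide)⟩)

end Cfsg.Agent.S2037
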