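import Cfsg.Statements.S2038
import Cfsg.Agent.Mult.Split
import Cfsg.Agent.Gol.Cert

set_option autoImplicit false
open Cfsg

namespace Cfsg.Agent.S2038

open Cfsg.Agent.CGT Cfsg.Agent.Mult Cfsg.Agent.Gol
set_option maxRecDepth 100000

def u2_D : PC := ⟨2, 10, 2, 22,
  [[0, 0x104, 0x410, 0x4540, 0x100, 0x400, 0x55000, 0x4000, 0x10000, 0x40000], [0, 0x4000, 0x110, 0x1040, 0x100, 0x4400, 0x1000, 0x4000, 0x50000, 0x40000], [0, 0, 0x400, 0x44140, 0x4100, 0x400, 0x11000, 0x4000, 0x50000, 0x40000], [0, 0, 0, 0x15400, 0x10100, 0x4400, 0x5000, 0x44000, 0x50000, 0x40000], [0, 0, 0, 0, 0, 0x400, 0x41000, 0x4000, 0x10000, 0x40000], [0, 0, 0, 0, 0, 0, 0x41000, 0x4000, 0x10000, 0x40000], [0, 0, 0, 0, 0, 0, 0x40000, 0x4000, 0x10000, 0x40000], [0, 0, 0, 0, 0, 0, 0, 0, 0x10000, 0x40000], [0, 0, 0, 0, 0, 0, 0, 0, 0, 0x40000], [0, 0, 0, 0, 0, 0, 0, 0, 0, 0]],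
  [0xc3f, 0x30cf, 0xccf, 0x3ff, 0xc, 3, 0, 0, 0, 0],
  [(10, 0x41, 0x44545), (10, 4, 0x515), (10, 0x100, 0x504), (10, 0x400, 0x4011), (10, 0x4000, 0x4000), (10, 0x10000, 0x45100), (11, 1, 0x14500), (11, 0x100, 0x40501), (11, 0x400, 0x44000), (11, 0x1000, 0x50055), (11, 0x40000, 0x40000), (12, 1, 0x50101), (12, 0x400, 0x14100), (12, 0x40000, 0x4000), (13, 0x14, 0x41115), (13, 0x40000, 0x14000)], 23, 0x80007000003000000020100040006090005⟩
def u2_ds : List (List ℕ) := [[14, 10, 4, 10, 14], [8, 2, 0, 6, 1, 12, 1, 6, 8, 6], [4, 0, 2, 0, 6, 10, 2, 6, 1], [6, 2, 0, 2, 10, 2, 12, 1, 10, 14, 8, 1], [4, 6, 4, 8, 10, 12, 10, 8], [4, 6, 4], [2, 6, 2, 8, 2, 6, 12, 14, 8, 0, 6], [12, 8, 2, 8, 6, 4, 1, 8, 0, 12, 1, 6, 4], [0, 14, 2, 14, 6, 1, 12, 10, 2, 0, 8, 4, 6, 0, 12], [12, 8, 0, 14, 10, 14, 4, 0, 8, 6, 1, 4, 12], [6, 8, 6, 10, 4, 10, 12, 1, 8], [10, 1, 4, 8, 10, 12, 10, 12, 14, 1, 8, 12,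 10], [2, 10, 4, 8, 10, 14, 1, 8, 1, 12, 6], [4, 1, 8, 1, 12, 10, 14, 12, 8, 10]]
def u2_c : Mult.Cert := ⟨96, 20, [[], [], [], [], [1], [2], [13], [24], [34], [37]],
  [],
  [[0x1a8024000046, 0, 0, 0x274e3fea00035, 0x8cca00000082, 0x8c3200000080, 0x1a485ce824000, 0xa0104000004, 0x839b0c100004, 0x828104000000], [0, 0x9c0640802080, 0x61af924000806, 0, 0x868f64000086, 0xc8a00800082, 0x1c10fb23a0487, 0x4000000000000, 0x16c9fb2120005, 0x400000000000], [0, 0, 0x29a9404001046, 0x567c94a2213b5, 0, 0x2000000000000, 0x7220735028086, 0xa0524000004, 0x586891c020000, 0x848380000000], [0, 0, 0, 0x1bcc86f64abad, 0, 0x820ea4010086, 0x1cb093e770087, 0, 0x1ec159a360001, 0xa01001000000], [0, 0, 0, 0, 0x8c8a00000082, 0x8a0124000004, 0x1eb1ebe320005, 0x800000000000, 0x86810c000000, 0x40000000000], [0, 0, 0, 0, 0, 0x8c1200000080, 0x5000000020000, 0x100000000000, 0x808100000000, 0x20000000000], [0,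 0, 0, 0, 0, 0, 0x1cd0db2320487, 0x200000000000, 0x20a8e000000, 0x1000000000000], [0, 0, 0, 0, 0, 0, 0, 0x801000000000, 0x8000000000, 0x80000000000], [0, 0, 0, 0, 0, 0, 0, 0, 0x86890c000000, 0x10000000000], [0, 0, 0, 0, 0, 0, 0, 0, 0, 0x40200000000]]⟩
theorem u2_all : allB u2_D u2_c [.assoc 4 4 4, .assoc 0x10 0x10 0x10, .assoc 0x1000 0x1000 0x1000, .assoc 0x100 4 4, .assoc 0x1000 0x100 4, .assoc 0x1000 4 4, .assoc 0x4000 0x10 0x10, .assoc 0x4000 0x1000 0x1000, .assoc 0x10000 0x100 4, .assoc 0x10000 0x400 0x10, .assoc 0x10000 0x1000 0x1000, .assoc 0x4000 0x1000 0x10, .assoc 4 1 1, .assoc 0x10 1 1, .assoc 0x100 0x100 0x10, .assoc 0x100 0x100 0x40, .assoc 0x400 0x10 4, .assoc 0x1000 0x100 0x100, .assoc 0x400 0x100 0x40, .assoc 0x10000 0x10 0x10, .assoc 0x10 4 4, .assoc 0x400 4 1, .assoc 0x1000 0x10 0x10, .assoc 0x10000 4 1, .assoc 0x10000 0x10 1, .assoc 0x1000 0x1000 0x10, .assoc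 0x1000 0x1000 0x40, .assoc 0x10 0x10 4, .assoc 0x40 0x40 0x40, .assoc 0x1000 0x10 4, .assoc 0x1000 1 1, .assoc 0x40 4 4, .assoc 0x100 0x40 0x40, .assoc 0x400 0x40 4, .assoc 0x40 0x10 0x10, .assoc 0x40 0x40 0x10, .assoc 0x40 4 1, .fus 10 [2, 2] [], .fus 10 [3, 3] [], .fus 10 [3, 2] [2, 3], .fus 10 [5, 5] [], .fus 10 [1, 1] [4], .fus 10 [3, 0] [0, 3, 4], .fus 11 [8, 8] [], .fus 11 [6, 6] [], .fus 11 [9, 8] [8, 9, 10], .fus 11 [9, 7] [7, 9, 10], .fus 11 [9, 9] [10], .fus 12 [13, 11] [11, 13], .fus 12 [12, 12] [], .fus 13 [15, 14] [14, 15]] 5 m24_ts u2_ds [6, 5, 4, 3, 2, 1, 0] [(5, [0x10000, 0x400, 0x40]), (13, [0x50]), (6, [0x1000, 0x10001]), (0, [0x40000, 0x14000, 0x1100, 0x11454])] = true := by decide +kernel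
theorem u2_pb {G : Type*} [Group G] [Finite G] {φ : G →* Equiv.Perm ℕ} {γ : ℕ → G}
    (M : Model φ γ 5 m24_ns m24_ts) (hB : IsBase φ ⊤ [6, 5, 4, 3, 2, 1, 0]) (hN : Nat.card G = 244823040) : PBound G 2 0 :=
  pbound_all M hB hN (by decide +kernel) (by decide +kernel) u2_all
def u3_D : PC := ⟨3, 3, 2, 17,
  [[0, 0x14, 0x10], [0, 0, 0x10], [0, 0, 0]],
  [3, 0, 0],
  [(3, 1, 0x18), (3, 4, 0x21), (3, 0x10, 0x10)], 9, 0x101000200000002⟩
def u3_ds : List (List ℕ) := [[4, 0, 2, 6, 8, 6, 1], [1, 14, 2, 8, 14, 8, 12, 0, 2, 12, 1, 4], [12, 10, 1, 8, 10, 2, 6, 12, 10, 8], [10, 2, 6, 1, 12, 8, 1, 6, 4, 14, 0]]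
def u3_c : Mult.Cert := ⟨14, 15, [[], [], [1]],
  [],
  [[0xa7, 0, 0x2d], [0, 4, 0x24], [0, 0, 0xa2]]⟩
theorem u3_all : allB u3_D u3_c [.assoc 8 4 1, .fus 3 [2, 0] [0, 2], .fus 3 [2, 1] [1, 2], .fus 3 [0, 0, 0] [], .fus 3 [1, 1, 1] []] 5 m24_ts u3_ds [6, 5, 4, 3, 2, 1, 0] [(0, [4]), (1, [0x10]), (3, [1])] = true := by decide +kernel
theorem u3_pb {G : Type*} [Group G] [Finite G] {φ : G →* Equiv.Perm ℕ} {γ : ℕ → G}
    (M : Model φ γ 5 m24_ns m24_ts) (hB : IsBase φ ⊤ [6, 5, 4, 3, 2, 1, 0]) (hN : Nat.card G = 244823040) : PBound G 3 0 :=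
  pbound_all M hB hN (by decide +kernel) (by decide +kernel) u3_all

/-- The Schur multiplier of the Mathieu group M₂₄ (the automorphism group of the length-24 binary code) is trivial; here the Schur multiplier is described through stem extensions, as in the definitions: surjective homomorphisms onto the group from a finite group, whose kernel is central in that finite group and contained in that finite group's commutator subgroup. -/
theorem result : Cfsg.HasCyclicSchurMultiplier ↥Cfsg.M24 1 := by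
  haveI := m24_cert.fin
  exact triv_of_bounds m24_card [(2, 10), (3, 3), (5, 1), (7, 1), (11, 1), (23, 1)] (by decide +kernel) (by decide +kernel) (by
    simp only [List.forall_mem_cons, List.not_mem_nil, IsEmpty.forall_iff, implies_true, and_true]
    exact ⟨.inr (u2_pb m24_cert.M m24_cert.base m24_card),
      .inr (u3_pb m24_cert.M m24_cert.base m24_card),
      .inl (by decide),
      .inl (by decide),
      .inl (by decide),
      .inl (by decide)⟩)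

end Cfsg.Agent.S2038
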