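import Cfsg.Statements.S2193
import Cfsg.Agent.TT.L2
import Cfsg.Agent.TT.SLc
import Cfsg.Agent.TT.Sp
import Cfsg.Agent.TT.SU
import Cfsg.Agent.TT.OFam
import Cfsg.Agent.TT.E678
import Cfsg.Agent.TT.F4
import Cfsg.Agent.TT.G2
import Cfsg.Agent.TT.Sz
import Cfsg.Agent.TT.Ree
import Cfsg.Agent.TT.TF4

set_option autoImplicit false
open Cfsg

namespace Cfsg.Agent.S2193

/-- The faithful 2-transitive permutation representations of the finite simple groups of Lie type. Let G be a finite simple group of Lie type (isomorphic to a member of one of the sixteen families over a finite field, the Tits group excepted) acting faithfully and 2-transitively on a finite set Ω. Then one of the following holds: G ≅ PSL_l(F) with l ≥ 3 and Ω has (|F|^l − 1)/(|F| − 1) points; G ≅ PSL₂(F) with |F| ≥ 4 and Ω has |F| + 1 points; G ≅ PSU₃(q), q ≥ 3, and Ω has q³ + 1 points; G is a Suzuki group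 Sz(q), q = 2^(2m+1) ≥ 8, and Ω has q² + 1 points; G is a Ree group ²G₂(q), q = 3^(2m+1) ≥ 27, and Ω has q³ + 1 points; G ≅ PSL₂(9) and Ω has 6 points; G ≅ PSL₂(11) and Ω has 11 points; G ≅ PSL₄(2) and Ω has 8 points; or G ≅ PSp_{2n}(2) with n ≥ 3 and Ω has 2^(n−1)(2^n + 1) or 2^(n−1)(2^n − 1) points. -/
theorem result {G Ω : Type*} [Group G] [Finite G] [MulAction G Ω] [FaithfulSMul G Ω] [Fintype Ω] (r : ℕ) [Fact r.Prime] (hG : Cfsg.IsLieTypeChar r G) (h2 : MulAction.IsMultiplyPretransitive G Ω 2) :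
    (∃ (F : Type) (_ : Field F) (_ : Fintype F) (l : ℕ), 3 ≤ l ∧ Nonempty (G ≃* Matrix.ProjectiveSpecialLinearGroup (Fin l) F) ∧ Fintype.card Ω * (Fintype.card F - 1) = Fintype.card F ^ l - 1) ∨
    (∃ (F : Type) (_ : Field F) (_ : Fintype F), 4 ≤ Fintype.card F ∧ Nonempty (G ≃* Matrix.ProjectiveSpecialLinearGroup (Fin 2) F) ∧ Fintype.card Ω = Fintype.card F + 1) ∨
    (∃ (F : Type) (_ : Field F) (_ : Fintype F) (q : ℕ), 3 ≤ q ∧ Fintype.card F = q ^ 2 ∧ Nonempty (G ≃* Cfsg.PSU 3 F q) ∧ Fintype.card Ω = q ^ 3 + 1) ∨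
    (∃ (F : Type) (_ : Field F) (_ : Fintype F) (m : ℕ), 1 ≤ m ∧ Fintype.card F = 2 ^ (2 * m + 1) ∧ Nonempty (G ≃* ↥(Cfsg.Lie.Sz F (2 ^ (m + 1)))) ∧ Fintype.card Ω = Fintype.card F ^ 2 + 1) ∨
    (∃ (K : Type) (_ : Field K) (_ : Fintype K) (m : ℕ), 1 ≤ m ∧ Fintype.card K = 3 ^ (2 * m + 1) ∧ Nonempty (G ≃* ↥(Cfsg.Lie.twistedG2 K (3 ^ m))) ∧ Fintype.card Ω = Fintype.card K ^ 3 + 1) ∨
    (∃ (F : Type) (_ : Field F) (_ : Fintype F), Fintype.card F = 9 ∧ Nonempty (G ≃* Matrix.ProjectiveSpecialLinearGroup (Fin 2) F) ∧ Fintype.card Ω = 6) ∨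
    (∃ (F : Type) (_ : Field F) (_ : Fintype F), Fintype.card F = 11 ∧ Nonempty (G ≃* Matrix.ProjectiveSpecialLinearGroup (Fin 2) F) ∧ Fintype.card Ω = 11) ∨
    (∃ (F : Type) (_ : Field F) (_ : Fintype F), Fintype.card F = 2 ∧ Nonempty (G ≃* Matrix.ProjectiveSpecialLinearGroup (Fin 4) F) ∧ Fintype.card Ω = 8) ∨
    (∃ (F : Type) (_ : Field F) (_ : Fintype F) (n : ℕ), 3 ≤ n ∧ Fintype.card F = 2 ∧ Nonempty (G ≃* Cfsg.PSp n F) ∧ (Fintype.card Ω = 2 ^ (n - 1) * (2 ^ n + 1) ∨ Fintype.card Ω = 2 ^ (n - 1) * (2 ^ n - 1))) := by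
  rw [← Nat.card_eq_fintype_card (α := Ω)]
  change TT.Concl G (Nat.card Ω)
  rcases hG with ⟨F, _, _, _, n, h, h', ⟨e⟩⟩ | h | h | h | h | h | ⟨F, _, _, _, ⟨h, ⟨e⟩⟩ | h | h | h | h⟩ |
    ⟨F, _, _, _, q, -, ⟨h, e⟩ | ⟨h, ⟨e⟩⟩⟩ | ⟨-, h⟩ | ⟨-, h⟩ | ⟨-, h⟩
  · rcases h.eq_or_lt with rfl | h
    exacts [TT.fam_L2 (h' rfl) e h2, TT.fam_L3 (p := r) h e h2]
  · exact TT.fam_PSp h h2
  · exact TT.fam_PSU h h2
  · exact TT.fam_POdd h h2
  · exact TT.fam_PPlus h h2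
  · exact TT.fam_PMinus h h2
  · exact (TT.fam_G2 r h e h2).elim
  · exact (TT.no_F4 r h h2).elim
  · exact (TT.no_E6 r h h2).elim
  · exact (TT.no_E7 r h h2).elim
  · exact (TT.no_E8 r h h2).elim
  · exact (TT.no_TE6 r (Nat.card_eq_fintype_card.trans h) e h2).elim
  · exact (TT.fam_D43 r h e h2).elim
  · exact TT.fam_Sz h h2
  · exact TT.fam_TF4 h h2
  · exact TT.fam_Ree h h2

end Cfsg.Agent.S2193
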