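import Cfsg.Statements.S2196
import Cfsg.Agent.UR.Main
import Cfsg.Agent.UR.A1
import Cfsg.Agent.UR.B0
import Cfsg.Agent.UR.N1of
import Cfsg.Agent.UR.CL
import Cfsg.Agent.UR.N2b

set_option autoImplicit false
open Cfsg

namespace Cfsg.Agent.S2196

/-- Primitive rank 3 actions of the projective special unitary groups in dimension at least 6 with q ≥ 3. Let G ≅ PSU_n(q), n ≥ 6, q ≥ 3 (realised over the field with q² elements), act faithfully and primitively on a finite set X so that a point stabilizer has exactly three orbits. Then X has as many points as there are isotropic points of the unitary space: |X|·(q² − 1) = (q^n − (−1)^n)(q^(n−1) − (−1)^(n−1)), written with natural numbers as |X|·(q² − 1) = (q^n − 1)(q^(n−1) + 1) for n even and (q^n + 1)(q^(n−1) − 1) for n odd. -/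
theorem result {G X : Type*} [Group G] [Finite G] [MulAction G X] [FaithfulSMul G X] [Fintype X] {F : Type*} [Field F] [Fintype F] (n q : ℕ) (hn : 6 ≤ n) (hq : 3 ≤ q) (hF : Fintype.card F = q ^ 2) (e : G ≃* Cfsg.PSU n F q) (hprim : MulAction.IsPreprimitive G X) (x : X) (h3 : Nat.card (MulAction.orbitRel.Quotient ↥(MulAction.stabilizer G x) X) = 3) :
    (Even n → Fintype.card X * (q ^ 2 - 1) = (q ^ n - 1) * (q ^ (n - 1) + 1)) ∧
    (Odd n → Fintype.card X * (q ^ 2 - 1) = (q ^ n + 1) * (q ^ (n - 1) - 1)) := by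
  classical
  let φ : (Polar.uStd hF n).EG →* G := (e.symm.toMonoidHom.comp (QuotientGroup.mk' _)).comp
    (Polar.suEquiv hF n).symm.toMonoidHom
  have hφ : Function.Surjective φ :=
    e.symm.surjective.comp ((QuotientGroup.mk'_surjective _).comp (Polar.suEquiv hF n).symm.surjective)
  let _ := MulAction.compHom X φ
  have : MulAction.IsPretransitive (Polar.uStd hF n).EG X := ⟨fun a b => by
    obtain ⟨g, rfl⟩ := MulAction.exists_smul_eq G a b
    obtain ⟨g, rfl⟩ := hφ g
    exact ⟨g, rfl⟩⟩
  have : Nontrivial X := by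
    by_contra h
    rw [not_nontrivial_iff_subsingleton] at h
    have := Finite.card_le_one_iff_subsingleton.2
      (inferInstance : Subsingleton (MulAction.orbitRel.Quotient (MulAction.stabilizer G x) X))
    omega
  have hmax : IsCoatom (MulAction.stabilizer (Polar.uStd hF n).EG x) :=
    Subgroup.isCoatom_comap_of_surjective hφ ((MulAction.isCoatom_stabilizer_iff_preprimitive G x).2 hprim)
  have h4 : Nat.card (MulAction.orbitRel.Quotient (MulAction.stabilizer (Polar.uStd hF n).EG x) X) = 3 := by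
    rw [← h3]
    refine Nat.card_congr (Quotient.congr (Equiv.refl X) fun a b => ⟨?_, ?_⟩)
    · rintro ⟨g, rfl⟩
      exact ⟨⟨φ g.1, g.2⟩, rfl⟩
    · rintro ⟨⟨g, hg⟩, rfl⟩
      obtain ⟨g, rfl⟩ := hφ g
      exact ⟨⟨g, hg⟩, rfl⟩
  have hP := Polar.uStd_nd hF n
  have hfr : Module.finrank F (Fin n → F) = n := by simp
  have R : UR.Rk3 (Polar.uStd hF n) x := ⟨inferInstance, h4⟩
  rw [← Nat.card_eq_fintype_card]
  exact UR.main_of hP hfr hn hq R hmax (UR.a1 hP hfr hn hq) (UR.b0 hP hfr hn hq R) 
    (fun h0 hT => UR.n1_of hP hfr hn hq h0 hT fun u a b => UR.cl hP hfr hn hq hT.trC a b (h0 u))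
    fun hQ _ _ h _ _ h1 _ h2 => UR.n2b_main hP hfr hn hQ h h1 h2

end Cfsg.Agent.S2196
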