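import Cfsg.Statements.S2216
import Cfsg.Agent.KC.Top
import Cfsg.Agent.KC.R9.All

set_option autoImplicit false
open Cfsg

namespace Cfsg.Agent.S2216

/-- A non-abelian finite simple group with exactly nine conjugacy classes is isomorphic to PSL(2, 8), PSL(2, 13) or the alternating group of degree 7. -/
theorem result {G : Type*} [Group G] [Finite G] [IsSimpleGroup G] (hG : ¬ IsMulCommutative G)
    (h : Nat.card (ConjClasses G) = 9) :
    (∃ (F : Type) (_ : Field F) (_ : Fintype F), Fintype.card F = 8 ∧
        Nonempty (G ≃* Matrix.ProjectiveSpecialLinearGroup (Fin 2) F)) ∨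
      Nonempty (G ≃* Matrix.ProjectiveSpecialLinearGroup (Fin 2) (ZMod 13)) ∨
      Nonempty (G ≃* ↥(alternatingGroup (Fin 7))) := by
  rcases KC.search_top hG h KC.R9.all with e | ⟨D, x, cls, L, y, hy, e1, e2⟩
  · exact KC.eppo9 hG e h
  · simp only [KC.acc9, List.mem_cons, List.not_mem_nil, or_false] at hy
    rcases hy with rfl | rfl
    exacts [Or.inr (Or.inl (L.l13 e1)), Or.inr (Or.inr (L.a7 e1 e2))]

end Cfsg.Agent.S2216
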