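import Cfsg.Statements.S2217
import Cfsg.Agent.KC.Top
import Cfsg.Agent.KC.R10.All

set_option autoImplicit false
open Cfsg

namespace Cfsg.Agent.S2217

/-- A non-abelian finite simple group with exactly ten conjugacy classes is isomorphic to the Mathieu group M₁₁ or to PSL(3, 4). -/
theorem result {G : Type*} [Group G] [Finite G] [IsSimpleGroup G] (hG : ¬ IsMulCommutative G)
    (h : Nat.card (ConjClasses G) = 10) :
    Nonempty (G ≃* ↥Cfsg.Spor.M11) ∨
      ∃ (F : Type) (_ : Field F) (_ : Fintype F), Fintype.card F = 4 ∧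
        Nonempty (G ≃* Matrix.ProjectiveSpecialLinearGroup (Fin 3) F) := by
  rcases KC.search_top hG h KC.R10.all with e | ⟨D, x, cls, L, y, hy, e1, e2⟩
  · exact Or.inr (KC.eppo10 hG e h)
  · simp only [KC.acc10, List.mem_cons, List.not_mem_nil, or_false] at hy
    subst hy
    exact Or.inl (L.m11 e1 e2)

end Cfsg.Agent.S2217
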