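import Cfsg.Statements.S2219
import Cfsg.Agent.N9.Fin
import Cfsg.Agent.SC3.Fin
import Cfsg.Agent.Ord.O2448

set_option autoImplicit false
open Cfsg

namespace Cfsg.Agent.S2219

open Cfsg.Agent.N9 Cfsg.Agent.CharLib Cfsg.Agent.Thom Subgroup in
theorem setup {G : Type*} [Group G] [Fintype G] [IsSimpleGroup G] (hG : ¬ IsMulCommutative G)
    {q a b : ℕ} [hq : Fact q.Prime] (hq2 : q ≠ 2) (hq3 : q ≠ 3)
    {B : G → Prop} {R : Sylow 3 G} {r : G} (D : Dat (2 ^ a * q ^ b) B R r) {α : G → ℂ}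
    (h1 : IsIrrCharacter G α) (h2 : α ≠ fun _ => 1) (h3 : α 1 = q) :
    b = 1 ∧ Nat.card G = q * (9 * 2 ^ a) ∧
      (∀ y : G, orderOf y = q → centralizer {y} = zpowers y) ∧
      ∃ (z : G) (e : ℕ) (m : IrrCharacter G → ZMod q → ℤ) (ψ : IrrCharacter G), orderOf z = q ∧
        Mu z e (9 * 2 ^ a) m ∧ ψ ≠ SC3.triv G ∧ SC3.dg ψ = 9 ∧ Odd (m ψ 0 - m ψ 1) ∧ e ≤ 9 := by
  obtain ⟨h4, hC⟩ := prime_deg hG h1 h2 hq.out h3
  have h5 := deg_dvd h1 h3
  obtain ⟨z, hz⟩ := exists_prime_orderOf_dvd_card' q h5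
  have hb : b = 1 := by
    rw [D.card] at h4 h5
    rcases b with _ | _ | b
    · rw [pow_zero, mul_one] at h5
      rcases (Nat.Prime.dvd_mul hq.out).mp h5 with f | f
      · exact absurd ((Nat.prime_dvd_prime_iff_eq hq.out Nat.prime_three).mp
          (hq.out.dvd_of_dvd_pow (n := 2) f)) hq3
      · exact absurd ((Nat.prime_dvd_prime_iff_eq hq.out Nat.prime_two).mp
          (hq.out.dvd_of_dvd_pow f)) hq2
    · rfl
    · exact absurd (((pow_dvd_pow q (by omega)).mul_left _).mul_left _) h4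
  have hn : Nat.card G = q * (9 * 2 ^ a) := by rw [D.card, hb]; ring
  obtain ⟨e, m, T⟩ := exists_mu hz hC hn
  obtain ⟨ψ, e1, e2, e3⟩ := T.psi hG hz hn hq2 hq3 D 1 one_ne_zero
  exact ⟨hb, hn, hC, z, e, m, ψ, hz, T, e1, e2, e3, e2 ▸ T.le_dg hz e1⟩

/-- Let G be a non-abelian finite simple group of order 9·2ᵃ·qᵇ for a prime q other than 2 and 3, having at least three conjugacy classes of nonidentity 3-elements (elements of order 3 or 9). Then G is isomorphic to PSL(2,8) or to PSL(2,17). -/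
theorem result {G : Type*} [Group G] [Finite G] [IsSimpleGroup G] (hG : ¬ IsMulCommutative G)
    (q a b : ℕ) (hq : q.Prime) (hq2 : q ≠ 2) (hq3 : q ≠ 3) (hcard : Nat.card G = 9 * 2 ^ a * q ^ b)
    (h3 : 3 ≤ Nat.card {C : ConjClasses G // ∃ g ∈ C.carrier, g ≠ 1 ∧ orderOf g ∣ 9}) :
    (∃ (F : Type) (_ : Field F) (_ : Fintype F), Fintype.card F = 8 ∧
        Nonempty (G ≃* Matrix.ProjectiveSpecialLinearGroup (Fin 2) F)) ∨
      Nonempty (G ≃* Matrix.ProjectiveSpecialLinearGroup (Fin 2) (ZMod 17)) := by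
  open Cfsg.Agent.N9 Cfsg.Agent.CharLib Cfsg.Agent.Thom Subgroup in
  have := Fintype.ofFinite G
  have := Fact.mk hq
  have h5 : 5 ≤ q := hq.five_le_of_ne_two_of_ne_three hq2 hq3
  obtain ⟨B, R, r, D⟩ := exists_dat (m := 2 ^ a * q ^ b) (by rw [hcard, mul_assoc]) (fun e => by
    rcases (Nat.Prime.dvd_mul Nat.prime_three).mp e with f | f
    · exact absurd (Nat.le_of_dvd two_pos (Nat.prime_three.dvd_of_dvd_pow f)) (by norm_num)
    · exact hq3 ((Nat.prime_dvd_prime_iff_eq Nat.prime_three hq).mp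
        (Nat.prime_three.dvd_of_dvd_pow f)).symm) h3
  obtain ⟨c, c', T⟩ := D.exists_th
  obtain ⟨x, -, hx⟩ := isIrr_degree T.irr
  have hx1 : c 1 = x := by exact_mod_cast hx
  have hx' : (c' 1 : ℂ) = (x + 1 : ℕ) := by rw [T.deg D, hx1]; norm_cast
  rcases nt_deg hq hq2 hq3 (two_le_deg hG T.irr T.ne hx) (D.card ▸ deg_dvd T.irr hx)
    (D.card ▸ deg_dvd T.irr' hx') (fun e => T.not_three D (by rw [hx1]; exact_mod_cast e))
    with ⟨rfl, i, hi⟩ | ⟨rfl, i, hi⟩
  · obtain ⟨rfl, hn, hC, z, e, m, ψ, hz, U, e1, e2, e3, e4⟩ := setup hG hq2 hq3 D T.irr T.ne hx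
    let β : IrrCharacter G := ⟨_, T.irr'⟩
    have b1 : β ≠ SC3.triv G := fun e => T.ne' (congrArg Subtype.val e)
    have b2 : SC3.dg β = x + 1 := charDegree_eq hx'
    have b3 : m β 0 - m β 1 = 1 := by
      rw [U.beta hz b1 (fun g j hj => congrArg Int.cast (T.pow g j hj).2) h5 b2.le 1 one_ne_zero, b2]
      push_cast; ring
    rcases nt_mersenne hq hq3 hi U.dvd'' U.dvd U.dvd' e4 with ⟨h7, e5⟩ | ⟨rfl, e5⟩
    swap
    · exact (U.not_nine hz hn hq2 hq3 hi e5 b2 b3 e1 e2 e3).elim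
    have b4 : β ≠ ψ := fun e => by rw [e] at b2; omega
    have b5 : m ψ 0 - m ψ 1 = -1 := by
      have := U.small e5 b1 e1 b4 (by omega) e3 fun χ => (SC3.dg χ : ℤ)
      simp only [Int.cast_id, U.deg, SC3.dg_triv, b2, b3, e2] at this
      omega
    have b6 := fun g => U.phi 1 g
    simp only [U.small e5 b1 e1 b4 (by omega) e3, b3, b5, SC3.triv_apply, Int.cast_one,
      Int.cast_neg, one_mul, neg_mul, ← sub_eq_add_neg] at b6
    have b7 := count7 hG (a := a) hz h7 (by rw [hn, h7]; ring) b1 e1 (by omega) e2 b6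
    have b8 : Nat.card G = 504 := by
      have := SC3.dg_dvd β
      rw [hn, b2, h7] at this
      rw [hn, h7]
      interval_cases a <;> omega
    rcases SC3.St.three ⟨inferInstance, hG, hq, h5, hcard,
      final7 D hz h7 b8 hC (by omega) e2 fun g => (b6 g).2⟩ with f | f | f
    · omega
    · exact Or.inl f
    · omega
  · obtain ⟨rfl, hn, hC, z, e, m, ψ, hz, U, e1, e2, e3, e4⟩ := setup hG hq2 hq3 D T.irr' T.ne' hx'
    let β : IrrCharacter G := ⟨_, T.irr⟩
    have b1 : β ≠ SC3.triv G := fun e => T.ne (congrArg Subtype.val e)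
    have b2 : SC3.dg β = x := charDegree_eq hx
    have b3 : m β 0 - m β 1 = -1 := by
      rw [U.beta hz b1 (fun g j hj => congrArg Int.cast (T.pow g j hj).1) h5 (by omega) 1 one_ne_zero, b2]
      push_cast; ring
    rcases nt_fermat hq hq2 hq3 (congrArg (· + 1) hi.symm) U.dvd'' U.dvd with h7 | h7
    · exact absurd (by omega) (T.ne_four hG D)
    have e5 : ¬ e ≤ 2 := fun e5 => by
      have := U.small e5 b1 e1 (fun e => by rw [e] at b2; omega) (by omega) e3
        fun χ => (SC3.dg χ : ℤ)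
      simp only [Int.cast_id, U.deg, SC3.dg_triv, b2, b3, e2] at this
      omega
    have b7 := count17 hG (a := a) D T (by omega) (by rw [hn, h7]; ring) fun k hk =>
      bound72 hG hq3 hn D.card D.cop hC e1 e2 (fun u ⟨s, hs⟩ => U.rat' hz (by omega) e1 e2
        (Nat.Coprime.coprime_dvd_left (orderOf_dvd_of_pow_eq_one hs)
          (Nat.Coprime.pow_left _ (by rw [h7]; norm_num)))) hk
    refine Or.inr (Ord.o2448 ?_)
    have f1 := SC3.dg_dvd β
    have f2 := U.dvd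
    have f3 := U.dvd''
    obtain rfl : x = 16 := by omega
    rw [hn, b2] at f1
    rw [hn]
    interval_cases e <;> interval_cases a <;> omega

end Cfsg.Agent.S2219
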