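import Cfsg.Statements.S2271

set_option autoImplicit false
open Cfsg

namespace Cfsg.Agent.S2271

open Equiv Finset

section core
variable {R : Type*} [Fintype R]

/-- the correlation sum -/
def tt (A B : Fin 4 ⊕ R → Fin 4 ⊕ R → ℤ) (f : Fin 4 → Fin 4) : ℤ :=
  ∑ i, ∑ j, A i j * B (Sum.map f id i) (Sum.map f id j)

def cr (A B : Fin 4 ⊕ R → Fin 4 ⊕ R → ℤ) (f : Fin 4 → Fin 4) (r : R) : ℤ :=
  ∑ i : Fin 4, (A (.inl i) (.inr r) * B (.inl (f i)) (.inr r) +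
    A (.inr r) (.inl i) * B (.inr r) (.inl (f i)))

theorem tt_eq (A B : Fin 4 ⊕ R → Fin 4 ⊕ R → ℤ) (f : Fin 4 → Fin 4) :
    tt A B f = (∑ i : Fin 4, ∑ j : Fin 4, A (.inl i) (.inl j) * B (.inl (f i)) (.inl (f j))) +
      ∑ r, cr A B f r + ∑ r, ∑ s, A (.inr r) (.inr s) * B (.inr r) (.inr s) := by
  simp only [tt, cr, Fintype.sum_sum_type, Sum.map_inl, Sum.map_inr, id, sum_add_distrib]
  rw [sum_comm (s := (univ : Finset R)) (t := (univ : Finset (Fin 4)))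
    (f := fun r i => A (.inl i) (.inr r) * B (.inl (f i)) (.inr r))]
  ring

def m1 (A : Fin 4 ⊕ R → Fin 4 ⊕ R → ℤ) : ℤ :=
  A (.inl 0) (.inl 1) + A (.inl 1) (.inl 0) + A (.inl 2) (.inl 3) + A (.inl 3) (.inl 2)
def m2 (A : Fin 4 ⊕ R → Fin 4 ⊕ R → ℤ) : ℤ :=
  A (.inl 0) (.inl 2) + A (.inl 2) (.inl 0) + A (.inl 1) (.inl 3) + A (.inl 3) (.inl 1)
def m3 (A : Fin 4 ⊕ R → Fin 4 ⊕ R → ℤ) : ℤ :=
  A (.inl 0) (.inl 3) + A (.inl 3) (.inl 0) + A (.inl 1) (.inl 2) + A (.inl 2) (.inl 1)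

def cc (A B : Fin 4 ⊕ R → Fin 4 ⊕ R → ℤ) : ℤ :=
  (∑ i : Fin 4, A (.inl i) (.inl i)) * (∑ i : Fin 4, B (.inl i) (.inl i)) +
  ∑ r, ((∑ i : Fin 4, A (.inl i) (.inr r)) * (∑ i : Fin 4, B (.inl i) (.inr r)) +
    (∑ i : Fin 4, A (.inr r) (.inl i)) * (∑ i : Fin 4, B (.inr r) (.inl i))) +
  4 * ∑ r, ∑ s, A (.inr r) (.inr s) * B (.inr r) (.inr s)

theorem coset1 (A B : Fin 4 ⊕ R → Fin 4 ⊕ R → ℤ) :
    tt A B ![0,1,2,3] + tt A B ![1,0,3,2] + tt A B ![2,3,0,1] + tt A B ![3,2,1,0] =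
      m1 A * m1 B + m2 A * m2 B + m3 A * m3 B + cc A B := by
  have : ∑ r, cr A B ![0,1,2,3] r + ∑ r, cr A B ![1,0,3,2] r + ∑ r, cr A B ![2,3,0,1] r +
      ∑ r, cr A B ![3,2,1,0] r = ∑ r, ((∑ i : Fin 4, A (.inl i) (.inr r)) *
        (∑ i : Fin 4, B (.inl i) (.inr r)) +
    (∑ i : Fin 4, A (.inr r) (.inl i)) * (∑ i : Fin 4, B (.inr r) (.inl i))) := by
    simp only [← sum_add_distrib]
    refine sum_congr rfl fun r _ => ?_
    simp [cr, Fin.sum_univ_four]; ring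
  simp only [tt_eq, cc, ← this, m1, m2, m3]
  simp [Fin.sum_univ_four]; ring

theorem coset2 (A B : Fin 4 ⊕ R → Fin 4 ⊕ R → ℤ) :
    tt A B ![0,2,3,1] + tt A B ![1,3,2,0] + tt A B ![2,0,1,3] + tt A B ![3,1,0,2] =
      m1 A * m2 B + m2 A * m3 B + m3 A * m1 B + cc A B := by
  have : ∑ r, cr A B ![0,2,3,1] r + ∑ r, cr A B ![1,3,2,0] r + ∑ r, cr A B ![2,0,1,3] r +
      ∑ r, cr A B ![3,1,0,2] r = ∑ r, ((∑ i : Fin 4, A (.inl i) (.inr r)) *
        (∑ i : Fin 4, B (.inl i) (.inr r)) +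
    (∑ i : Fin 4, A (.inr r) (.inl i)) * (∑ i : Fin 4, B (.inr r) (.inl i))) := by
    simp only [← sum_add_distrib]
    refine sum_congr rfl fun r _ => ?_
    simp [cr, Fin.sum_univ_four]; ring
  simp only [tt_eq, cc, ← this, m1, m2, m3]
  simp [Fin.sum_univ_four]; ring

theorem coset3 (A B : Fin 4 ⊕ R → Fin 4 ⊕ R → ℤ) :
    tt A B ![0,3,1,2] + tt A B ![1,2,0,3] + tt A B ![2,1,3,0] + tt A B ![3,0,2,1] =
      m1 A * m3 B + m2 A * m1 B + m3 A * m2 B + cc A B := by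
  have : ∑ r, cr A B ![0,3,1,2] r + ∑ r, cr A B ![1,2,0,3] r + ∑ r, cr A B ![2,1,3,0] r +
      ∑ r, cr A B ![3,0,2,1] r = ∑ r, ((∑ i : Fin 4, A (.inl i) (.inr r)) *
        (∑ i : Fin 4, B (.inl i) (.inr r)) +
    (∑ i : Fin 4, A (.inr r) (.inl i)) * (∑ i : Fin 4, B (.inr r) (.inl i))) := by
    simp only [← sum_add_distrib]
    refine sum_congr rfl fun r _ => ?_
    simp [cr, Fin.sum_univ_four]; ring
  simp only [tt_eq, cc, ← this, m1, m2, m3]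
  simp [Fin.sum_univ_four]; ring

theorem circ {a1 a2 a3 b1 b2 b3 : ℤ} (h1 : a1 * b1 + a2 * b2 + a3 * b3 = a1 * b2 + a2 * b3 + a3 * b1)
    (h2 : a1 * b1 + a2 * b2 + a3 * b3 = a1 * b3 + a2 * b1 + a3 * b2) :
    (a1 = a2 ∧ a2 = a3) ∨ (b1 = b2 ∧ b2 = b3) := by
  have : ((a1 - a2) ^ 2 + (a2 - a3) ^ 2 + (a3 - a1) ^ 2) *
      ((b1 - b2) ^ 2 + (b2 - b3) ^ 2 + (b3 - b1) ^ 2) = 0 := by
    have e : ((a1 - a2) ^ 2 + (a2 - a3) ^ 2 + (a3 - a1) ^ 2) *
      ((b1 - b2) ^ 2 + (b2 - b3) ^ 2 + (b3 - b1) ^ 2) =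
      2 * (((a1 * b1 + a2 * b2 + a3 * b3) - (a1 * b2 + a2 * b3 + a3 * b1)) ^ 2 +
       ((a1 * b1 + a2 * b2 + a3 * b3) - (a1 * b3 + a2 * b1 + a3 * b2)) ^ 2 +
       ((a1 * b2 + a2 * b3 + a3 * b1) - (a1 * b3 + a2 * b1 + a3 * b2)) ^ 2) := by ring
    rw [e, ← h1, ← h2]; ring
  rcases mul_eq_zero.1 this with h | h
  · left; constructor <;> nlinarith [sq_nonneg (a1 - a2), sq_nonneg (a2 - a3), sq_nonneg (a3 - a1)]
  · right; constructor <;> nlinarith [sq_nonneg (b1 - b2), sq_nonneg (b2 - b3), sq_nonneg (b3 - b1)]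

theorem ev12 : ∀ f ∈ ([![0,1,2,3], ![1,0,3,2], ![2,3,0,1], ![3,2,1,0], ![0,2,3,1], ![1,3,2,0],
    ![2,0,1,3], ![3,1,0,2], ![0,3,1,2], ![1,2,0,3], ![2,1,3,0], ![3,0,2,1]] : List (Fin 4 → Fin 4)),
    ∃ σ : Perm (Fin 4), Perm.sign σ = 1 ∧ ⇑σ = f := by
  decide +kernel

theorem key (A B : Fin 4 ⊕ R → Fin 4 ⊕ R → ℤ) (c : ℤ)
    (h : ∀ σ : Perm (Fin 4), Perm.sign σ = 1 → tt A B σ = c) :
    (m1 A = m2 A ∧ m2 A = m3 A) ∨ (m1 B = m2 B ∧ m2 B = m3 B) := by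
  have h' : ∀ f ∈ ([![0,1,2,3], ![1,0,3,2], ![2,3,0,1], ![3,2,1,0], ![0,2,3,1], ![1,3,2,0],
    ![2,0,1,3], ![3,1,0,2], ![0,3,1,2], ![1,2,0,3], ![2,1,3,0], ![3,0,2,1]] : List (Fin 4 → Fin 4)),
    tt A B f = c := by
    intro f hf
    obtain ⟨σ, hσ, rfl⟩ := ev12 f hf
    exact h σ hσ
  simp only [List.mem_cons, List.not_mem_nil, or_false, forall_eq_or_imp, forall_eq] at h'
  obtain ⟨e1, e2, e3, e4, e5, e6, e7, e8, e9, e10, e11, e12⟩ := h'
  have c1 := coset1 A B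
  have c2 := coset2 A B
  have c3 := coset3 A B
  apply circ <;> linarith

end core

/-- indicator matrix of a permutation -/
def ind {X : Type*} [DecidableEq X] (a : Perm X) (i j : X) : ℤ := if a i = j then 1 else 0

theorem card_fix_eq {X : Type*} [Fintype X] [DecidableEq X] (a b : Perm X) :
    (Nat.card (Function.fixedPoints ⇑(a * b)) : ℤ) = ∑ i, ∑ j, ind a⁻¹ i j * ind b i j := by
  rw [Nat.card_eq_fintype_card, Fintype.card_subtype, card_filter]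
  push_cast
  refine sum_congr rfl fun i _ => ?_
  rw [sum_eq_single (b i)]
  · simp only [ind, Function.mem_fixedPoints_iff, Perm.coe_mul, Function.comp, if_true, mul_one]
    by_cases h : a (b i) = i
    · rw [if_pos h, if_pos (by rw [Perm.inv_eq_iff_eq, h])]; rfl
    · rw [if_neg h, if_neg (by rw [Perm.inv_eq_iff_eq]; exact fun e => h e.symm)]; rfl
  · intro j _ hj; simp [ind, hj.symm]
  · simp

theorem exists_frame {n : ℕ} (hn : 5 ≤ n) (a : Perm (Fin n)) (ha : a ≠ 1) :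
    ∃ φ : Fin 4 ⊕ Fin (n - 4) ≃ Fin n, m1 (fun i j => ind a (φ i) (φ j)) ≠
      m2 (fun i j => ind a (φ i) (φ j)) := by
  obtain ⟨x, hx⟩ : ∃ x, a x ≠ x := by
    by_contra h; push Not at h; exact ha (Equiv.ext h)
  obtain ⟨z, hz⟩ : ∃ z, z ∉ ({x, a x, a⁻¹ x} : Finset (Fin n)) := by
    have := card_le_three (a := x) (b := a x) (c := a⁻¹ x)
    obtain ⟨e, -, he⟩ := exists_mem_notMem_of_card_lt_card
      (s := ({x, a x, a⁻¹ x} : Finset (Fin n))) (t := univ) (by simp only [card_univ, Fintype.card_fin]; omega)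
    exact ⟨e, he⟩
  obtain ⟨w, hw⟩ : ∃ w, w ∉ ({x, a x, a (a x), z} : Finset (Fin n)) := by
    have := card_le_four (a := x) (b := a x) (c := a (a x)) (d := z)
    obtain ⟨e, -, he⟩ := exists_mem_notMem_of_card_lt_card
      (s := ({x, a x, a (a x), z} : Finset (Fin n))) (t := univ) (by simp only [card_univ, Fintype.card_fin]; omega)
    exact ⟨e, he⟩
  simp only [mem_insert, mem_singleton, not_or] at hz hw
  have inj : Function.Injective ![x, a x, z, w] := by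
    intro i j
    fin_cases i <;> fin_cases j <;> simp_all [eq_comm]
  let e0 : Fin 4 ⊕ Fin (n - 4) ≃ Fin n := finSumFinEquiv.trans (finCongr (by omega))
  obtain ⟨g, hg⟩ := Equiv.Perm.exists_extending_pair (fun i => e0 (.inl i)) _
    (e0.injective.comp Sum.inl_injective) inj
  refine ⟨e0.trans g, ?_⟩
  simp only [m1, m2, Equiv.trans_apply, hg]
  have h1 : a z ≠ x := fun h => hz.2.2 (by rw [← h]; simp)
  have h2 : a w ≠ a x := fun h => hw.1 (a.injective h)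
  have h3 : a x ≠ z := fun h => hz.2.1 h.symm
  have h4 : a (a x) ≠ w := fun h => hw.2.2.1 h.symm
  simp only [ind, Matrix.cons_val_zero, Matrix.cons_val_one, Matrix.cons_val, h1, h2, h3, h4,
    if_true, if_false]
  split_ifs <;> omega

theorem main {n : ℕ} (a b : Perm (Fin n)) (φ ψ : Fin 4 ⊕ Fin (n - 4) ≃ Fin n)
    (hs : Perm.sign (ψ.symm.trans φ) = 1) (c : ℕ)
    (h : ∀ g : Perm (Fin n), Perm.sign g = 1 →
      Nat.card (Function.fixedPoints ⇑(a * (g * b * g⁻¹))) = c) :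
    (m1 (fun i j => ind a⁻¹ (φ i) (φ j)) = m2 (fun i j => ind a⁻¹ (φ i) (φ j)) ∧
      m2 (fun i j => ind a⁻¹ (φ i) (φ j)) = m3 (fun i j => ind a⁻¹ (φ i) (φ j))) ∨
    (m1 (fun i j => ind b (ψ i) (ψ j)) = m2 (fun i j => ind b (ψ i) (ψ j)) ∧
      m2 (fun i j => ind b (ψ i) (ψ j)) = m3 (fun i j => ind b (ψ i) (ψ j))) := by
  apply key _ _ c
  intro σ hσ
  let τ : Perm (Fin 4 ⊕ Fin (n - 4)) := Perm.sumCongr σ 1
  let g : Perm (Fin n) := (ψ.symm.trans φ) * (ψ.permCongr τ⁻¹)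
  have hg : Perm.sign g = 1 := by
    simp [g, τ, hs, hσ]
  rw [← h g hg, card_fix_eq, tt, ← φ.sum_comp]
  refine sum_congr rfl fun i _ => ?_
  rw [← φ.sum_comp]
  refine sum_congr rfl fun j _ => ?_
  congr 1
  have e : ∀ i, g⁻¹ (φ i) = ψ (Sum.map σ id i) := by
    intro i
    rw [Perm.inv_eq_iff_eq]
    simp [g, τ, Perm.mul_apply, Perm.inv_def]
    cases i <;> simp
    rfl
  simp only [ind, Perm.mul_apply, e]
  congr 1
  rw [eq_iff_iff, ← e j, Perm.eq_inv_iff_eq]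


/-- Let n ≥ 5 and let a, b be non-identity permutations in the symmetric group S_n. Then the number of fixed points is not constant on the set of products a′b′ with a′ conjugate to a and b′ conjugate to b under the alternating group: there are even permutations g₁, h₁, g₂, h₂ such that (g₁ a g₁⁻¹)(h₁ b h₁⁻¹) and (g₂ a g₂⁻¹)(h₂ b h₂⁻¹) have different numbers of fixed points. -/
theorem result (n : ℕ) (hn : 5 ≤ n) (a b : Equiv.Perm (Fin n)) (ha : a ≠ 1) (hb : b ≠ 1) :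
    ∃ g₁ h₁ g₂ h₂ : Equiv.Perm (Fin n), g₁ ∈ alternatingGroup (Fin n) ∧ h₁ ∈ alternatingGroup (Fin n) ∧ g₂ ∈ alternatingGroup (Fin n) ∧ h₂ ∈ alternatingGroup (Fin n) ∧
      Nat.card (Function.fixedPoints ⇑(g₁ * a * g₁⁻¹ * (h₁ * b * h₁⁻¹))) ≠
        Nat.card (Function.fixedPoints ⇑(g₂ * a * g₂⁻¹ * (h₂ * b * h₂⁻¹))) := by
  by_contra hcon
  push Not at hcon
  have h : ∀ g : Perm (Fin n), Perm.sign g = 1 →
      Nat.card (Function.fixedPoints ⇑(a * (g * b * g⁻¹))) =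
        Nat.card (Function.fixedPoints ⇑(a * b)) := by
    intro g hg
    simpa using hcon 1 g 1 1 (one_mem _) (Perm.mem_alternatingGroup.2 hg) (one_mem _) (one_mem _)
  obtain ⟨φ, hφ⟩ := exists_frame hn a⁻¹ (inv_ne_one.2 ha)
  obtain ⟨ψ, hψ⟩ := exists_frame hn b hb
  rcases Int.units_eq_one_or (Perm.sign (ψ.symm.trans φ)) with hs | hs
  · rcases main a b φ ψ hs _ h with h1 | h1
    · exact hφ h1.1
    · exact hψ h1.1
  · let τ : Perm (Fin 4 ⊕ Fin (n - 4)) := Perm.sumCongr (swap 1 2) 1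
    have hs' : Perm.sign ((τ.trans ψ).symm.trans φ) = 1 := by
      have : ((τ.trans ψ).symm.trans φ) = (ψ.symm.trans φ) * (ψ.permCongr τ⁻¹) := by
        ext x; simp [Perm.mul_apply, Perm.inv_def]
      rw [this]
      simp [τ, hs]
    rcases main a b φ _ hs' _ h with h1 | h1
    · exact hφ h1.1
    · apply hψ
      have := h1.1
      simp only [m1, m2, τ, Equiv.trans_apply, Perm.sumCongr_apply, Sum.map_inl] at this ⊢
      have e0 : swap (1 : Fin 4) 2 0 = 0 := by decide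
      have e3 : swap (1 : Fin 4) 2 3 = 3 := by decide
      rw [e0, e3, swap_apply_left, swap_apply_right] at this
      linarith

end Cfsg.Agent.S2271
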