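import Cfsg.Statements.S2272
import Cfsg.Agent.GLn.Frames
import Cfsg.Agent.GLn.Blocks

set_option autoImplicit false
open Cfsg

namespace Cfsg.Agent.S2272

open Matrix Cfsg.Agent.GLn

theorem tr_formula {F : Type*} [Field F] {ι : Type*} [Fintype ι] [DecidableEq ι]
    (A B : Matrix ι ι F) (v w : ι → F) :
    trace (A * ((1 + vecMulVec v w) * B * (1 + vecMulVec v (-w)))) =
      trace (A * B) + w ⬝ᵥ ((B * A - A * B) *ᵥ v) - (w ⬝ᵥ (B *ᵥ v)) * (w ⬝ᵥ (A *ᵥ v)) := by
  have e : A * ((1 + vecMulVec v w) * B * (1 + vecMulVec v (-w))) =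
      A * B + A * vecMulVec v w * B - A * B * vecMulVec v w -
        A * (vecMulVec v w * B * vecMulVec v w) := by
    rw [vecMulVec_neg]; noncomm_ring
  have t1 : ∀ X : Matrix ι ι F, trace (X * vecMulVec v w) = w ⬝ᵥ (X *ᵥ v) := by
    intro X; rw [mul_vecMulVec, trace_vecMulVec, dotProduct_comm]
  have t2 : vecMulVec v w * B * vecMulVec v w = (w ⬝ᵥ (B *ᵥ v)) • vecMulVec v w := by
    rw [Matrix.mul_assoc, mul_vecMulVec, vecMulVec_mul_vecMulVec]
    ext i j; simp [vecMulVec_apply]; ring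
  rw [e, trace_sub, trace_sub, trace_add, t2, Matrix.mul_smul, trace_smul, t1, t1,
    trace_mul_cycle, t1, sub_mulVec, dotProduct_sub, smul_eq_mul]
  ring

theorem exists_conj_col {F : Type*} [Field F] {d : ℕ} (hd : 3 ≤ d)
    (A : Matrix.SpecialLinearGroup (Fin d) F)
    (hA : (QuotientGroup.mk A : Matrix.ProjectiveSpecialLinearGroup (Fin d) F) ≠ 1)
    {i j : Fin d} (hij : i ≠ j) :
    ∃ g : Matrix.SpecialLinearGroup (Fin d) F,
      (g * A * g⁻¹).1 *ᵥ Pi.single i 1 = Pi.single j 1 := by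
  have : ∃ v, LinearIndependent F ![v, A.1 *ᵥ v] := by
    by_contra h
    push Not at h
    obtain ⟨c, hc⟩ := LinearMap.exists_eq_smul_id_of_forall_notLinearIndependent
      (f := Matrix.toLin' A.1) h
    apply hA
    rw [QuotientGroup.eq_one_iff, sl_mem_center_iff]
    refine ⟨c, ?_⟩
    apply Matrix.toLin'.injective
    rw [hc, Algebra.algebraMap_eq_smul_one, map_smul, Matrix.toLin'_one]; rfl
  obtain ⟨v, hv⟩ := this
  have h2 : LinearIndependent F ![(Pi.single i 1 : Fin d → F), Pi.single j 1] := by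
    rw [LinearIndependent.pair_iff]
    intro s t e
    exact ⟨by simpa [hij] using congrFun e i, by simpa [hij.symm] using congrFun e j⟩
  obtain ⟨g, h1, h2⟩ := exists_sl_pair hd hv h2
  refine ⟨g, ?_⟩
  rw [sl_mul_mulVec, sl_mul_mulVec, sl_inv_mulVec g h1, h2]

theorem exists_trace {F : Type*} [Field F] {d : ℕ} (hd : 3 ≤ d)
    (A B : Matrix.SpecialLinearGroup (Fin d) F)
    (hA : (QuotientGroup.mk A : Matrix.ProjectiveSpecialLinearGroup (Fin d) F) ≠ 1)
    (hB : (QuotientGroup.mk B : Matrix.ProjectiveSpecialLinearGroup (Fin d) F) ≠ 1) (c : F) :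
    ∃ g h : Matrix.SpecialLinearGroup (Fin d) F, trace (g * A * g⁻¹ * (h * B * h⁻¹)).1 = c := by
  let i0 : Fin d := ⟨0, by omega⟩
  let i1 : Fin d := ⟨1, by omega⟩
  let i2 : Fin d := ⟨2, by omega⟩
  have h01 : i0 ≠ i1 := by simp [i0, i1]
  have h02 : i0 ≠ i2 := by simp [i0, i2]
  have h12 : i1 ≠ i2 := by simp [i2, i1]
  obtain ⟨g, hg⟩ := exists_conj_col hd A hA h01
  obtain ⟨h, hh⟩ := exists_conj_col hd B hB h02
  set A' := g * A * g⁻¹
  set B' := h * B * h⁻¹ with hB'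
  set u := (B'.1 * A'.1 - A'.1 * B'.1) *ᵥ Pi.single i0 1
  let s : F := u i2 + 1
  let t : F := trace (A'.1 * B'.1) + s * u i1 - c
  let w : Fin d → F := Pi.single i1 s + Pi.single i2 t
  have hw : w ⬝ᵥ Pi.single i0 1 = 0 := by simp [w, h01, h02]
  refine ⟨g, trv _ w hw * h, ?_⟩
  have e : trv _ w hw * h * B * (trv _ w hw * h)⁻¹ = trv _ w hw * B' * (trv _ w hw)⁻¹ := by
    rw [hB']; group
  rw [e, trv_inv]
  change trace (A'.1 * ((1 + vecMulVec _ w) * B'.1 * (1 + vecMulVec _ (-w)))) = c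
  rw [tr_formula, hg, hh]
  have e1 : w ⬝ᵥ u = s * u i1 + t * u i2 := by simp [w]
  have e2 : w ⬝ᵥ Pi.single i2 1 = t := by simp [w, h12.symm]
  have e3 : w ⬝ᵥ Pi.single i1 1 = s := by simp [w, h12]
  rw [e1, e2, e3]
  simp only [s, t]; ring

theorem trace_zero_of_isConj {F : Type*} [Field F] {d : ℕ}
    (X Y : Matrix.SpecialLinearGroup (Fin d) F)
    (h : IsConj (QuotientGroup.mk X : Matrix.ProjectiveSpecialLinearGroup (Fin d) F)
      (QuotientGroup.mk Y)) (hX : trace X.1 = 0) : trace Y.1 = 0 := by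
  obtain ⟨c, hc⟩ := isConj_iff.1 h
  obtain ⟨g, rfl⟩ := QuotientGroup.mk_surjective c
  rw [← QuotientGroup.mk_inv, ← QuotientGroup.mk_mul, ← QuotientGroup.mk_mul,
    QuotientGroup.eq, sl_mem_center_iff] at hc
  obtain ⟨z, hz⟩ := hc
  have : Y = g * X * g⁻¹ * ((g * X * g⁻¹)⁻¹ * Y) := by group
  rw [this, Matrix.SpecialLinearGroup.coe_mul, hz, Algebra.algebraMap_eq_smul_one,
    Matrix.mul_smul, Matrix.mul_one, trace_smul, Matrix.SpecialLinearGroup.coe_mul,
    Matrix.SpecialLinearGroup.coe_mul, trace_mul_cycle, ← Matrix.SpecialLinearGroup.coe_mul,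
    inv_mul_cancel, Matrix.SpecialLinearGroup.coe_one, Matrix.one_mul, hX, smul_zero]


/-- Let F be a finite field and d ≥ 3, and let a, b be non-identity elements of PSL_d(F). Then the product of the conjugacy classes of a and b is not a single conjugacy class: there are conjugates a′ of a and b′ of b such that a′b′ is not conjugate to ab. -/
theorem result {F : Type*} [Field F] [Fintype F] (d : ℕ) (hd : 3 ≤ d)
    (a b : Matrix.ProjectiveSpecialLinearGroup (Fin d) F) (ha : a ≠ 1) (hb : b ≠ 1) :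
    ∃ g h : Matrix.ProjectiveSpecialLinearGroup (Fin d) F, ¬ IsConj (a * b) (g * a * g⁻¹ * (h * b * h⁻¹)) := by
  obtain ⟨A, rfl⟩ := QuotientGroup.mk_surjective a
  obtain ⟨B, rfl⟩ := QuotientGroup.mk_surjective b
  by_contra hcon
  push Not at hcon
  obtain ⟨g0, h0, e0⟩ := exists_trace hd A B ha hb 0
  obtain ⟨g1, h1, e1⟩ := exists_trace hd A B ha hb 1
  have c0 := hcon (QuotientGroup.mk g0) (QuotientGroup.mk h0)
  have c1 := hcon (QuotientGroup.mk g1) (QuotientGroup.mk h1)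
  have := trace_zero_of_isConj _ _ (c0.symm.trans c1) e0
  exact one_ne_zero (e1.symm.trans this)

end Cfsg.Agent.S2272
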