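import Cfsg.Statements.S2405
import Cfsg.Agent.GenE.Chev
import Cfsg.Agent.Chev.ReflB2
import Cfsg.Agent.Chev.ReflG2
import Cfsg.Agent.Chev.ReflD4
import Cfsg.Agent.Chev.ReflF4
import Cfsg.Agent.Chev.ReflE6
import Cfsg.Agent.Chev.ReflE7
import Cfsg.Agent.Chev.ReflE8

set_option autoImplicit false
open Cfsg

namespace Cfsg.Agent.S2405

open Cfsg.Lie Cfsg.Agent.Chev Cfsg.Agent.GenE

variable (F : Type*) [Field F] [Finite F]

theorem aE6 : ∃ a b : chevE6.group F, Subgroup.closure ({a, b} : Set (chevE6.group F)) = ⊤ :=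
  gen_A (S := certE6.sys F) ssE6 cartanE6 (certE6.sys_φ_inj F) [2, 3, 1, 4, 5, 0] [1, 0, 0, 0, 0, 0] ⟨5, by decide⟩ [2, 3, 1, 4, 5, 0]
    [(0, [51], [[36]], [0, 0, 0, 0]), (1, [52], [[36], [51]], []), (0, [56], [[52]], [1]), (0, [15], [[51]], [0, 0, 0]), (2, [56], [], []), (0, [46], [[51]], [2, 1, 1]), (0, [42], [[15]], [1, 2]), (0, [39], [[51]], [0]), (0, [37], [[36]], [0]), (0, [25], [[52]], [0, 0, 2, 0]), (0, [29], [[52]], [2, 1]), (0, [32], [[56]], [1, 1]), (0, [34], [[51]], [1, 2, 0, 0]), (0, [35], [[51]], [1, 2, 0])]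
    (by decide +kernel)

theorem aE7 : ∃ a b : chevE7.group F, Subgroup.closure ({a, b} : Set (chevE7.group F)) = ⊤ :=
  gen_A (S := certE7.sys F) ssE7 cartanE7 (certE7.sys_φ_inj F) [0, 1, 5, 3, 4, 6, 2] [1, 0, 0, 0, 0, 0, 0] ⟨3, by decide⟩ [0, 1, 5, 3, 4, 6, 2]
    [(0, [78], [[69]], [0]), (0, [47], [[69]], [1, 1, 1, 1, 1, 1, 1, 1]), (3, [78], [], []), (0, [56], [[47]], [1]), (5, [69], [], []), (0, [66], [[69]], [1, 3, 1, 3, 1]), (0, [59], [[56]], [1, 3, 1, 3, 1]), (6, [66], [], []), (0, [93], [[47]], [0, 6, 0]), (0, [73], [[47]], [0, 6, 3, 5]), (0, [64], [[59]], [1, 3, 5, 6]), (0, [63], [[59]], [5, 3, 0, 0]), (0, [32], [[78]], [0, 6, 0]), (0, [52], [[78]], [0, 6, 3, 5]), (0, [61], [[66]], [1, 3, 5, 6]), (0, [62], [[66]], [5, 3, 0, 0])]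
    (by decide +kernel)

theorem aE8 : ∃ a b : chevE8.group F, Subgroup.closure ({a, b} : Set (chevE8.group F)) = ⊤ :=
  gen_A (S := certE8.sys F) ssE8 cartanE8 (certE8.sys_φ_inj F) [6, 0, 2, 4, 3, 5, 1, 7] [0, 0, 0, 0, 1, 0, 0, 0] ⟨7, by decide⟩ [7, 1, 5, 3, 4, 2, 0, 6]
    [(0, [119], [[120]], [0, 0, 0, 0, 0, 0, 0, 0, 0, 0, 0, 0, 0, 0, 0]), (9, [120], [], []), (0, [121], [[119]], [1, 9]), (0, [118], [[120]], [1, 9]), (8, [121], [], []), (0, [123], [[120]], [0, 8]), (0, [116], [[119]], [0, 8]), (7, [123], [], []), (0, [126], [[119]], [1, 1, 7]), (0, [113], [[120]], [1, 1, 7]), (6, [126], [], []), (0, [130], [[126]], [7, 1, 1, 7, 1]), (0, [109], [[113]], [7, 1, 1, 7, 1]), (5, [130], [], []), (0, [162], [[130]], [6, 0, 0]), (0, [141], [[130]], [1]), (0, [135], [[130]], [6, 0]), (0, [77], [[109]], [6, 0, 0]), (0, [98], [[109]], [1]), (0, [104], [[109]], [6, 0])]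
    (by decide +kernel)

theorem bB2 (hF : ∃ x : F, x ≠ 0 ∧ x ≠ 1) : ∃ a b : chevB2.group F, Subgroup.closure ({a, b} : Set (chevB2.group F)) = ⊤ :=
  gen_B (S := certB2.sys F) ssB2 cartanB2 (certB2.sys_φ_inj F) hF [0, 1] [1, 1] ⟨0, by decide⟩ ⟨1, by decide⟩ [0, 1]
    [(0, [2], [[5]], [0, 0]), (0, [3], [[4]], [0, 0])]
    (by decide +kernel)

theorem bG2 (hF : ∃ x : F, x ≠ 0 ∧ x ≠ 1) : ∃ a b : chevG2.group F, Subgroup.closure ({a, b} : Set (chevG2.group F)) = ⊤ :=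
  gen_B (S := certG2.sys F) ssG2 cartanG2 (certG2.sys_φ_inj F) hF [1, 0] [1, 2] ⟨1, by decide⟩ ⟨0, by decide⟩ [1, 0]
    [(0, [4], [[7]], [0, 0, 0]), (0, [5], [[6]], [0, 0, 0])]
    (by decide +kernel)

theorem bD4 (hF : ∃ x : F, x ≠ 0 ∧ x ≠ 1) : ∃ a b : chevD4.group F, Subgroup.closure ({a, b} : Set (chevD4.group F)) = ⊤ :=
  gen_B (S := certD4.sys F) ssD4 cartanD4 (certD4.sys_φ_inj F) hF [0, 2, 1, 3] [0, 0, 0, 1] ⟨1, by decide⟩ ⟨2, by decide⟩ [0, 2, 1, 3]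
    [(0, [9], [[14]], [0, 0, 0]), (3, [14], [], []), (0, [18], [[13]], [3, 0]), (0, [12], [[14]], [1]), (0, [5], [[13]], [3, 1, 1]), (0, [10], [[13]], [0, 0, 0]), (0, [11], [[9]], [1])]
    (by decide +kernel)

theorem bF4 (hF : ∃ x : F, x ≠ 0 ∧ x ≠ 1) : ∃ a b : chevF4.group F, Subgroup.closure ({a, b} : Set (chevF4.group F)) = ⊤ :=
  gen_B (S := certF4.sys F) ssF4 cartanF4 (certF4.sys_φ_inj F) hF [0, 3, 2, 1] [0, 1, 0, 0] ⟨0, by decide⟩ ⟨3, by decide⟩ [0, 3, 2, 1]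
    [(0, [14], [[33]], [0, 0, 0, 0, 0, 0]), (2, [33], [], []), (0, [27], [[14]], [0, 2]), (0, [25], [[24]], [1]), (0, [20], [[33]], [0, 2]), (0, [22], [[24]], [0, 2, 0]), (0, [23], [[24]], [0, 2, 0, 0])]
    (by decide +kernel)

theorem qD4 (hF : ∀ t : F, t = 0 ∨ t = 1) : ∃ a b : chevD4.group F, Subgroup.closure ({a, b} : Set (chevD4.group F)) = ⊤ :=
  gen_Q ssD4 (certD4.sys F) hF [0, 1, 2, 3] 5 10
    [(0, [9], [[5]], [1]), (1, [7], [[9]], []), (0, [18], [[9]], [1, 1]), (2, [18], [], []), (0, [14], [[18]], [1]), (0, [13], [[7]], [2, 0]), (0, [12], [[7]], [0, 0]), (0, [10], [[7]], [2, 1, 1]), (0, [11], [[7]], [1])]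
    (by decide +kernel)

theorem qF4 (hF : ∀ t : F, t = 0 ∨ t = 1) : ∃ a b : chevF4.group F, Subgroup.closure ({a, b} : Set (chevF4.group F)) = ⊤ :=
  gen_Q ssF4 (certF4.sys F) hF [0, 1, 2, 3] 14 22
    [(0, [28], [[14]], [0, 0]), (0, [27], [[28]], [0, 0, 0]), (1, [30], [[28], [27]], []), (0, [33], [[27]], [0]), (0, [25], [[30]], [1, 1, 1]), (0, [24], [[30]], [1, 1, 1, 1]), (0, [20], [[14]], [1]), (0, [22], [[30]], [0, 0, 0]), (0, [23], [[30]], [0, 0])]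
    (by decide +kernel)


/-- Each Chevalley group of type G₂, B₂, D₄, F₄, E₆, E₇ or E₈ over a finite field is generated by two of its elements (types B₂ and G₂ over the field with two elements, where the group is not simple, excepted). -/
theorem result {F : Type*} [Field F] [Finite F] (D : Cfsg.Lie.ChevalleyDatum) (hD : D ∈ [Cfsg.Lie.chevG2, Cfsg.Lie.chevB2, Cfsg.Lie.chevD4, Cfsg.Lie.chevF4, Cfsg.Lie.chevE6, Cfsg.Lie.chevE7, Cfsg.Lie.chevE8])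
    (hF : D ∈ [Cfsg.Lie.chevB2, Cfsg.Lie.chevG2] → ∃ x : F, x ≠ 0 ∧ x ≠ 1) :
    ∃ a b : ↥(D.group F), Subgroup.closure ({a, b} : Set ↥(D.group F)) = ⊤ := by
  have h2 : (∃ x : F, x ≠ 0 ∧ x ≠ 1) ∨ ∀ t : F, t = 0 ∨ t = 1 := by
    by_contra! h
    obtain ⟨t, h0, h1⟩ := h.2
    exact h1 (h.1 t h0)
  simp only [List.mem_cons, List.not_mem_nil, or_false] at hD
  rcases hD with rfl | rfl | rfl | rfl | rfl | rfl | rfl
  · exact bG2 F (hF (by simp))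
  · exact bB2 F (hF (by simp))
  · exact h2.elim (bD4 F) (qD4 F)
  · exact h2.elim (bF4 F) (qF4 F)
  · exact aE6 F
  · exact aE7 F
  · exact aE8 F

end Cfsg.Agent.S2405
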