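import Cfsg.Statements.S2468
import Cfsg.Agent.GLn.Card

set_option autoImplicit false
open Cfsg

namespace Cfsg.Agent.S2468

open Cfsg.Agent.GLn Polynomial

/-- Adjacency of two odd primes in the prime graph of PSL(n,q): let F be a finite field of characteristic p with q elements, n ≥ 2 with PSL(n,F) simple, and let r ≠ s be odd primes different from p dividing the order of PSL(n,F). Let k and l be the multiplicative orders of q modulo r and modulo s, and suppose 2 ≤ k ≤ l. Then PSL(n,F) has NO element of order r·s if and only if k + l > n and k does not divide l. -/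
theorem result {F : Type*} [Field F] [Fintype F] (p : ℕ) [Fact p.Prime] [CharP F p] (n : ℕ) (hn : 2 ≤ n) (hsmall : n = 2 → 4 ≤ Fintype.card F)
    (r s : ℕ) (hr : r.Prime) (hs : s.Prime) (hr2 : r ≠ 2) (hs2 : s ≠ 2) (hrp : r ≠ p) (hsp : s ≠ p) (hrs : r ≠ s)
    (hrG : r ∣ Nat.card (Matrix.ProjectiveSpecialLinearGroup (Fin n) F)) (hsG : s ∣ Nat.card (Matrix.ProjectiveSpecialLinearGroup (Fin n) F))
    (k l : ℕ) (hk : k = orderOf ((Fintype.card F : ℕ) : ZMod r)) (hl : l = orderOf ((Fintype.card F : ℕ) : ZMod s))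
    (h2k : 2 ≤ k) (hkl : k ≤ l) :
    (r * s ∉ Set.range (orderOf : Matrix.ProjectiveSpecialLinearGroup (Fin n) F → ℕ)) ↔ (n < k + l ∧ ¬ k ∣ l) := by
  have hq0 : 0 < Fintype.card F := Fintype.card_pos
  have hcop : ∀ t : ℕ, t.Prime → 2 ≤ orderOf ((Fintype.card F : ℕ) : ZMod t) →
      Nat.Coprime t (Fintype.card F - 1) := by
    intro t ht h2
    rw [ht.coprime_iff_not_dvd, ← pow_one (Fintype.card F), dvd_pow_sub_one_iff _ _ _ hq0,
      Nat.dvd_one]
    omega
  have hcop' : Nat.Coprime (r * s) (Fintype.card F - 1) :=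
    Nat.Coprime.mul_left (hcop r hr (hk ▸ h2k)) (hcop s hs (hl ▸ h2k.trans hkl))
  have hrs' : Nat.Coprime r s := (Nat.coprime_primes hr hs).mpr hrs
  have hrk : r ∣ Fintype.card F ^ k - 1 := by rw [dvd_pow_sub_one_iff _ _ _ hq0, hk]
  have hsl : s ∣ Fintype.card F ^ l - 1 := by rw [dvd_pow_sub_one_iff _ _ _ hq0, hl]
  have hln : l ≤ n := hl ▸ orderOf_card_le_of_dvd_card_SL p hs hsp (hsG.trans card_PSL_dvd)
  have hfin : ∀ A : Matrix (Fin n) (Fin n) F, orderOf A = r * s →
      r * s ∈ Set.range (orderOf : Matrix.ProjectiveSpecialLinearGroup (Fin n) F → ℕ) := by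
    intro A hA
    obtain ⟨x, hx⟩ := exists_psl_orderOf_eq_of_coprime A
      (by rw [hA]; exact mul_ne_zero hr.ne_zero hs.ne_zero) (by rwa [hA])
    exact ⟨x, hx.trans hA⟩
  constructor
  · intro h
    by_contra hcon
    apply h
    by_cases h1 : k + l ≤ n
    · obtain ⟨A, hA⟩ := exists_matrix_orderOf_eq F (by omega) hrk
      obtain ⟨B, hB⟩ := exists_matrix_orderOf_eq F (by omega) hsl
      apply hfin (blk (Nat.add_sub_cancel' h1) (blk rfl (A, B), 1))
      rw [orderOf_blk, orderOf_blk, hA, hB, orderOf_one, Nat.lcm_one_right, hrs'.lcm_eq_mul]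
    · have h2 : k ∣ l := by
        by_contra h3; exact hcon ⟨by omega, h3⟩
      obtain ⟨A, hA⟩ := exists_matrix_orderOf_eq F (d := l) (m := r * s) (by omega)
        (hrs'.mul_dvd_of_dvd_of_dvd (by rwa [dvd_pow_sub_one_iff _ _ _ hq0, ← hk]) hsl)
      apply hfin (blk (Nat.add_sub_cancel' hln) (A, 1))
      rw [orderOf_blk, hA, orderOf_one, Nat.lcm_one_right]
  · rintro ⟨h1, h2⟩ ⟨x, hx⟩
    induction x using QuotientGroup.induction_on with | H g =>
    obtain ⟨μ, hμ, hrμ⟩ := exists_root_dvd_orderOf p (K := AlgebraicClosure F) g hr hrp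
      (hx ▸ dvd_mul_right _ _)
    obtain ⟨ν, hν, hsν⟩ := exists_root_dvd_orderOf p (K := AlgebraicClosure F) g hs hsp
      (hx ▸ dvd_mul_left _ _)
    have h3 := orderOf_card_dvd_natDegree (isIntegral_of_root hμ) (root_ne_zero (by simp) hμ) hrμ
    have h4 := orderOf_card_dvd_natDegree (isIntegral_of_root hν) (root_ne_zero (by simp) hν) hsν
    rw [← hk] at h3
    rw [← hl] at h4
    have h5 := minpoly.natDegree_pos (isIntegral_of_root hμ)
    have h6 := minpoly.natDegree_pos (isIntegral_of_root hν)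
    by_cases h : minpoly F μ = minpoly F ν
    · rw [h] at h3
      have h7 := natDegree_minpoly_le_of_root hν
      rw [Fintype.card_fin] at h7
      obtain ⟨c, hc⟩ := h4
      rw [hc] at h3 h6 h7
      have : c ≠ 1 := by rintro rfl; exact h2 (by simpa using h3)
      have : c ≠ 0 := by rintro rfl; simp at h6
      have : l * 2 ≤ l * c := Nat.mul_le_mul_left _ (by omega)
      omega
    · have h7 := natDegree_minpoly_add_le_of_root hμ hν h
      rw [Fintype.card_fin] at h7
      have := Nat.le_of_dvd h5 h3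
      have := Nat.le_of_dvd h6 h4
      omega

end Cfsg.Agent.S2468
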