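import Cfsg.Statements.S2470
import Cfsg.Agent.GLn.Card

set_option autoImplicit false
open Cfsg

namespace Cfsg.Agent.S2470

open Cfsg.Agent.GLn Polynomial

theorem exists_psl_jordan_blk {F : Type*} [Field F] (p : ℕ) [Fact p.Prime] [CharP F p]
    {a b n : ℕ} (ha : 0 < a) (hn : a + b = n) (D : Matrix.SpecialLinearGroup (Fin b) F) :
    ∃ x : Matrix.ProjectiveSpecialLinearGroup (Fin n) F,
      orderOf x = Nat.lcm (p ^ Nat.clog p a) (orderOf D) := by
  have : Nonempty (Fin a) := ⟨⟨0, ha⟩⟩
  refine exists_psl_orderOf_eq (blk hn (1 + shiftN F a, (D : Matrix (Fin b) (Fin b) F))) ?_ _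
    fun j => ?_
  · rw [det_blk, det_one_add_of_isNilpotent (isNilpotent_shiftN a), D.det_coe, one_mul]
  simp only [blk_pow_eq_algebraMap_iff]
  rw [Nat.lcm_dvd_iff, ← orderOf_jordan (F := F) p a, sl_orderOf_eq, orderOf_dvd_iff_pow_eq_one,
    orderOf_dvd_iff_pow_eq_one]
  constructor
  · rintro ⟨c, h1, h2⟩
    have h4 := unipotent_pow_eq_algebraMap (by simpa using isNilpotent_shiftN a) h1
    rw [h4, map_one] at h1 h2
    exact ⟨h1, h2⟩
  · rintro ⟨h1, h2⟩
    exact ⟨1, by rw [h1, map_one], by rw [h2, map_one]⟩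


/-- Adjacency of an odd prime and the characteristic in the prime graph of PSL(n,q): let F be a finite field of characteristic p with q elements, n ≥ 2 with PSL(n,F) simple, and let r ≠ p be an odd prime dividing the order of PSL(n,F), with k the multiplicative order of q modulo r. Then PSL(n,F) has NO element of order r·p if and only if either k > n − 2, or n = 3, r = 3 and 3 divides q − 1 exactly once. -/
theorem result {F : Type*} [Field F] [Fintype F] (p : ℕ) [Fact p.Prime] [CharP F p] (n : ℕ) (hn : 2 ≤ n) (hsmall : n = 2 → 4 ≤ Fintype.card F)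
    (r : ℕ) (hr : r.Prime) (hr2 : r ≠ 2) (hrp : r ≠ p) (hrG : r ∣ Nat.card (Matrix.ProjectiveSpecialLinearGroup (Fin n) F))
    (k : ℕ) (hk : k = orderOf ((Fintype.card F : ℕ) : ZMod r)) :
    (r * p ∉ Set.range (orderOf : Matrix.ProjectiveSpecialLinearGroup (Fin n) F → ℕ)) ↔
      (n - 2 < k ∨ (n = 3 ∧ r = 3 ∧ 3 ∣ Fintype.card F - 1 ∧ ¬ 9 ∣ Fintype.card F - 1)) := by
  classical
  have hp : p.Prime := Fact.out
  have hq0 : 0 < Fintype.card F := Fintype.card_pos
  have hk0 : 0 < k := hk ▸ orderOf_card_pos p hr hrp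
  have hclog : Nat.clog p 2 = 1 := Nat.clog_eq_one le_rfl hp.two_le
  have hrp' : Nat.Coprime p r := (Nat.coprime_primes hp hr).mpr hrp.symm
  constructor
  · intro h
    by_contra hcon
    apply h
    rw [not_or, not_lt] at hcon
    obtain ⟨h1, h2⟩ := hcon
    by_cases hn4 : 4 ≤ n
    · have : Fact r.Prime := ⟨hr⟩
      have h3 : r ∣ Nat.card (Matrix.SpecialLinearGroup (Fin (n - 2)) F) := by
        by_cases hk1 : k = 1
        · refine Dvd.dvd.trans ?_ (pow_sub_one_dvd_card_SL (i := 2) le_rfl (by omega))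
          rw [dvd_pow_sub_one_iff _ _ _ hq0, ← hk, hk1]; exact one_dvd _
        · refine Dvd.dvd.trans ?_ (pow_sub_one_dvd_card_SL (i := k) (by omega) h1)
          rw [dvd_pow_sub_one_iff _ _ _ hq0, hk]
      obtain ⟨D, hD⟩ := exists_prime_orderOf_dvd_card' r h3
      obtain ⟨x, hx⟩ := exists_psl_jordan_blk p (a := 2) (n := n) two_pos (by omega) D
      exact ⟨x, by rw [hx, hD, hclog, pow_one, hrp'.lcm_eq_mul, mul_comm]⟩
    · obtain rfl : n = 3 := by omega
      have hk1 : k = 1 := by omega
      have h3 : r ∣ Fintype.card F - 1 := by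
        rw [← pow_one (Fintype.card F), dvd_pow_sub_one_iff _ _ _ hq0, ← hk, hk1]
      obtain ⟨l, hl0, hl⟩ : ∃ l : F, l ≠ 0 ∧ orderOf (l ^ 3) = r := by
        by_cases hr3 : r = 3
        · subst hr3
          have h9 : 9 ∣ Fintype.card F - 1 := by
            by_contra h9; exact h2 ⟨rfl, rfl, h3, h9⟩
          obtain ⟨l, hl0, hl⟩ := exists_orderOf_eq_of_dvd F h9
          exact ⟨l, hl0, by rw [orderOf_pow' _ (by norm_num), hl]; norm_num⟩
        · obtain ⟨l, hl0, hl⟩ := exists_orderOf_eq_of_dvd F h3
          refine ⟨l, hl0, ?_⟩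
          rw [← hl]
          apply Nat.Coprime.orderOf_pow
          rw [hl]; exact (Nat.coprime_primes hr Nat.prime_three).mpr hr3
      obtain ⟨x, hx⟩ := exists_psl_jordan_scalar p (a := 2) (n := 3) two_pos rfl l hl0
      exact ⟨x, by rw [hx, hl, hclog, pow_one, hrp'.lcm_eq_mul, mul_comm]⟩
  · rintro h ⟨x, hx⟩
    have ha : orderOf (x ^ r) = p := by
      rw [orderOf_pow' _ hr.ne_zero, hx, Nat.gcd_eq_right (dvd_mul_right _ _),
        Nat.mul_div_cancel_left _ hr.pos]
    have hb : orderOf (x ^ p) = r := by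
      rw [orderOf_pow' _ hp.ne_zero, hx, Nat.gcd_eq_right (dvd_mul_left _ _),
        Nat.mul_div_cancel _ hp.pos]
    have hab : Commute (x ^ r) (x ^ p) := Commute.pow_pow_self x r p
    generalize x ^ r = a at ha hab
    generalize x ^ p = b at hb hab
    induction b using QuotientGroup.induction_on with | H B =>
    obtain ⟨μ, hμ, h2⟩ := exists_sq_dvd_of_commute p (K := AlgebraicClosure F) a ha B hab
    have hi := isIntegral_of_root hμ
    have h5 := minpoly.natDegree_pos hi
    have hfin : ¬ ∀ ν : AlgebraicClosure F,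
        aeval ν (B : Matrix (Fin n) (Fin n) F).charpoly = 0 → ν = μ := by
      intro hall
      have hd : (minpoly F μ).natDegree = 1 := by
        have := natDegree_le_of_sq_dvd hμ h2 hμ
        rw [Fintype.card_fin] at this
        have h6 : μ ^ Fintype.card F = μ := by
          apply hall
          have := aeval_algHom_apply (FiniteField.frobeniusAlgHom F (AlgebraicClosure F)) μ
            (B : Matrix (Fin n) (Fin n) F).charpoly
          rw [hμ, map_zero] at this
          simpa using this
        exact Nat.dvd_one.mp ((pow_card_pow_eq_self_iff hi 1).mp (by rwa [pow_one]))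
      obtain ⟨c, hc⟩ := minpoly.natDegree_eq_one_iff.mp hd
      have h7 := pow_mul_char_pow_eq_of_roots p (K := AlgebraicClosure F)
        (B : Matrix (Fin n) (Fin n) F) (m := 1) (c := c)
        (fun ν hν => by rw [hall ν hν, pow_one, hc]) (Nat.le_pow_clog hp.one_lt _)
      have h8 := (psl_orderOf_dvd_iff B _).mpr ⟨_, h7⟩
      rw [hb, one_mul] at h8
      exact hrp ((Nat.prime_dvd_prime_iff_eq hr hp).mp (hr.dvd_of_dvd_pow h8))
    apply hfin
    rcases h with h | ⟨rfl, rfl, h3, h9⟩
    · obtain ⟨ν, hν, hrν⟩ := exists_root_dvd_orderOf p (K := AlgebraicClosure F) B hr hrp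
        (hb ▸ dvd_rfl)
      have hiν := isIntegral_of_root hν
      have h3 := orderOf_card_dvd_natDegree hiν (root_ne_zero (by simp) hν) hrν
      have h4 := minpoly.natDegree_pos hiν
      rw [← hk] at h3
      have h6 := Nat.le_of_dvd h4 h3
      have h7 := natDegree_le_of_sq_dvd hμ h2 hν
      rw [Fintype.card_fin] at h7
      have hn2 : n = 2 := by omega
      intro ξ hξ
      have h8 := natDegree_le_of_sq_dvd hμ h2 hξ
      have h9 := minpoly.natDegree_pos (isIntegral_of_root hξ)
      rw [Fintype.card_fin] at h8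
      have h10 : minpoly F ξ = minpoly F μ := by
        rcases h8 with h8 | h8
        · exact h8.1
        · omega
      have h11 : (minpoly F μ).natDegree = 1 := by
        have := natDegree_le_of_sq_dvd hμ h2 hμ
        rw [Fintype.card_fin] at this
        omega
      obtain ⟨c, hc⟩ := minpoly.natDegree_eq_one_iff.mp h11
      have h12 := minpoly.aeval F ξ
      rw [h10, ← hc, minpoly.eq_X_sub_C] at h12
      rw [← hc]
      simpa [sub_eq_zero] using h12
    · have h11 : (minpoly F μ).natDegree = 1 := by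
        have := natDegree_le_of_sq_dvd hμ h2 hμ
        rw [Fintype.card_fin] at this
        omega
      obtain ⟨c, rfl⟩ := minpoly.natDegree_eq_one_iff.mp h11
      rw [minpoly.eq_X_sub_C] at h2
      obtain ⟨g, hg⟩ := h2
      have hm := (B : Matrix (Fin 3) (Fin 3) F).charpoly_monic
      have hgm : g.Monic := ((monic_X_sub_C c).pow 2).of_mul_monic_left (hg ▸ hm)
      have hgd : g.natDegree = 1 := by
        have := (B : Matrix (Fin 3) (Fin 3) F).charpoly_natDegree_eq_dim
        rw [hg, ((monic_X_sub_C c).pow 2).natDegree_mul hgm, natDegree_pow, natDegree_X_sub_C,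
          Fintype.card_fin] at this
        omega
      have hg' := hgm.eq_X_add_C hgd
      have hdet := Matrix.det_eq_sign_charpoly_coeff (B : Matrix (Fin 3) (Fin 3) F)
      rw [B.det_coe, hg, mul_coeff_zero, Fintype.card_fin, coeff_zero_eq_eval_zero] at hdet
      simp only [eval_pow, eval_sub, eval_X, eval_C] at hdet
      obtain ⟨e, he⟩ := (psl_orderOf_dvd_iff B 3).mp hb.dvd
      have he3 := scalar_pow_eq_one_of_sl he
      rw [Fintype.card_fin] at he3
      have hc3 := root_pow_eq_of_pow_eq _ he hμ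
      rw [← map_pow, (algebraMap F _).injective.eq_iff] at hc3
      have hc0 : c ≠ 0 := by
        rintro rfl; simp at hdet
      have hc9 : c ^ 9 = 1 := by rw [show 9 = 3 * 3 from rfl, pow_mul, hc3, he3]
      have h12 : orderOf c ∣ 3 := by
        have h13 := orderOf_dvd_of_pow_eq_one hc9
        have h14 := orderOf_dvd_of_pow_eq_one (FiniteField.pow_card_sub_one_eq_one c hc0)
        obtain ⟨j, hj, hj'⟩ := (Nat.dvd_prime_pow Nat.prime_three (m := 2)).mp h13
        rw [hj'] at h14 ⊢
        interval_cases j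
        · simp
        · simp
        · exact absurd h14 h9
      have hc3' : c ^ 3 = 1 := orderOf_dvd_iff_pow_eq_one.mp h12
      have hg0 : g.coeff 0 = -c := by
        apply mul_left_cancel₀ (pow_ne_zero 2 hc0)
        linear_combination hdet + hc3'
      intro ν hν
      rw [hg, hg', hg0] at hν
      simp only [map_mul, map_pow, map_sub, map_add, aeval_X, aeval_C, map_neg, ← sub_eq_add_neg,
        ← pow_succ] at hν
      exact sub_eq_zero.mp (pow_eq_zero_iff (by norm_num) |>.mp hν)

end Cfsg.Agent.S2470
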