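import Cfsg.Statements.S2475
import Cfsg.Agent.SL2.More

set_option autoImplicit false
open Cfsg

namespace Cfsg.Agent.S2475

open Cfsg.Agent.SL2

/-- The set of element orders of PSL(2,q): let F be a finite field of characteristic p with q ≥ 4 elements and d = gcd(2, q − 1). The orders of elements of PSL(2,F) are exactly the divisors of p, of (q − 1)/d and of (q + 1)/d. -/
theorem result {F : Type*} [Field F] [Fintype F] (p : ℕ) [Fact p.Prime] [CharP F p] (h4 : 4 ≤ Fintype.card F) :
    Set.range (orderOf : Matrix.ProjectiveSpecialLinearGroup (Fin 2) F → ℕ) =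
      {m : ℕ | m ∣ p ∨ m ∣ (Fintype.card F - 1) / Nat.gcd 2 (Fintype.card F - 1) ∨ m ∣ (Fintype.card F + 1) / Nat.gcd 2 (Fintype.card F - 1)} := by
  ext m
  simp only [Set.mem_range, Set.mem_ofPred_eq]
  constructor
  · rintro ⟨x, rfl⟩
    exact orderOf_pr_cases p x
  · rintro (h | h | h)
    · apply exists_orderOf_of_dvd (pr (upT 1))
      rwa [orderOf_eq_prime (p := p) (by rw [← map_pow, sl_pow_char_of_trace_two p (trace_upT 1), map_one])
        (fun e => one_ne_zero (isScal_upT.1 (pr_eq_one_iff.1 e)))]
    · obtain ⟨s, hs, -⟩ := exists_spl_generator h4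
      obtain ⟨g, -, -, hg⟩ := exists_generator_cen hs.disc_one
      apply exists_orderOf_of_dvd (pr g)
      rwa [orderOf_pr_generator hg, card_cent_spl hs]
    · obtain ⟨s, hs, -⟩ := exists_ell_generator (F := F)
      obtain ⟨g, -, -, hg⟩ := exists_generator_cen hs.disc_one
      apply exists_orderOf_of_dvd (pr g)
      rwa [orderOf_pr_generator hg, card_cent_ell hs]

end Cfsg.Agent.S2475
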