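import Cfsg.Statements.S2477
import Cfsg.Agent.SymAlt.Orders

set_option autoImplicit false
open Cfsg

namespace Cfsg.Agent.S2477

def tab : List (ℕ × ℕ × ℕ) := [(0, 0, 1), (2, 1, 2), (3, 1, 3), (4, 0, 2), (4, 1, 4), (5, 0, 6), (5, 1, 5), (6, 0, 3), (6, 0, 4), (6, 1, 2), (6, 1, 6), (7, 0, 10), (7, 0, 12), (7, 1, 6), (7, 1, 7), (8, 0, 2), (8, 0, 4), (8, 0, 6), (8, 0, 15), (8, 1, 4), (8, 1, 6), (8, 1, 8), (9, 0, 6), (9, 0, 14), (9, 0, 20), (9, 1, 3), (9, 1, 9), (9, 1, 10), (9, 1, 12), (10, 0, 4), (10, 0, 5), (10, 0, 6), (10, 0, 8), (10, 0, 12), (10, 0, 21), (10, 1, 2), (10, 1, 4), (10, 1, 6), (10, 1, 10), (10, 1, 12), (10, 1, 30)]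

theorem tab_step : ∀ t ∈ tab, ∀ a ∈ List.range 11, 2 ≤ a → a + t.1 ≤ 10 →
    (a + t.1, (t.2.1 + 1) % 2, Nat.lcm a t.2.2) ∈ tab := by decide +kernel

theorem tab_fin : ∀ t ∈ tab, (t.1 + t.2.1) % 2 = 0 →
    t.2.2 ∈ [1, 2, 3, 4, 5, 6, 7, 8, 9, 10, 12, 15, 21] := by decide +kernel

theorem mem_tab (c : Multiset ℕ) (h1 : c.sum ≤ 10) (h2 : ∀ a ∈ c, 2 ≤ a) :
    (c.sum, c.card % 2, c.lcm) ∈ tab := by
  induction c using Multiset.induction_on with
  | empty => decide
  | cons a s ih =>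
    rw [Multiset.sum_cons] at h1
    have h3 := ih (by omega) (fun x hx => h2 x (Multiset.mem_cons_of_mem hx))
    have h4 := tab_step _ h3 a (List.mem_range.2 (by omega)) (h2 a (Multiset.mem_cons_self _ _)) h1
    rw [Multiset.sum_cons, Multiset.card_cons, Multiset.lcm_cons]
    simp only at h4
    rw [show (s.card % 2 + 1) % 2 = (s.card + 1) % 2 by omega] at h4
    exact h4


/-- The set of element orders of the alternating group of degree 10 is {1, 2, 3, 4, 5, 6, 7, 8, 9, 10, 12, 15, 21}. -/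
theorem result : Set.range (orderOf : alternatingGroup (Fin 10) → ℕ) = {1, 2, 3, 4, 5, 6, 7, 8, 9, 10, 12, 15, 21} := by
  ext m
  rw [SymAlt.mem_range_orderOf_alt_iff]
  constructor
  · rintro ⟨c, h1, h2, h3, rfl⟩
    have h4 := tab_fin _ (mem_tab c h1 h2) (by rw [Nat.even_iff] at h3; simp only; omega)
    simpa using h4
  · intro hm
    simp only [Set.mem_insert_iff, Set.mem_singleton_iff] at hm
    rcases hm with rfl | rfl | rfl | rfl | rfl | rfl | rfl | rfl | rfl | rfl | rfl | rfl | rfl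
    · exact ⟨0, by decide, by simp, by decide, by decide⟩
    · exact ⟨{2, 2}, by decide, by simp, by decide, by decide⟩
    · exact ⟨{3}, by decide, by simp, by decide, by decide⟩
    · exact ⟨{4, 2}, by decide, by simp, by decide, by decide⟩
    · exact ⟨{5}, by decide, by simp, by decide, by decide⟩
    · exact ⟨{6, 2}, by decide, by simp, by decide, by decide⟩
    · exact ⟨{7}, by decide, by simp, by decide, by decide⟩
    · exact ⟨{8, 2}, by decide, by simp, by decide, by decide⟩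
    · exact ⟨{9}, by decide, by simp, by decide, by decide⟩
    · exact ⟨{5, 2, 2}, by decide, by simp, by decide, by decide⟩
    · exact ⟨{4, 3, 2}, by decide, by simp, by decide, by decide⟩
    · exact ⟨{5, 3}, by decide, by simp, by decide, by decide⟩
    · exact ⟨{7, 3}, by decide, by simp, by decide, by decide⟩

end Cfsg.Agent.S2477
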