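import Cfsg.Statements.S2497
import Cfsg.Agent.EP.Loc5
import Cfsg.Agent.EP.Emb
import Cfsg.Agent.EP.TI5
import Cfsg.Agent.EP.Dih
import Cfsg.Agent.EP.Odd
import Cfsg.Agent.EP.L34

set_option autoImplicit false
open Cfsg

namespace Cfsg.Agent.S2497

open Cfsg.Agent.EP Cfsg.Agent.SC3 Subgroup

/-- Let G be a finite non-abelian simple group in which every non-identity element has prime-power order. Then G is isomorphic to one of: the alternating group of degree 6, PSL(2,q) for q ∈ {4, 7, 8, 17}, PSL(3,4), or the Suzuki group over the field with 8 or with 32 elements. -/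
theorem result {G : Type*} [Group G] [Finite G] [IsSimpleGroup G] (hG : ¬ IsMulCommutative G)
    (h : ∀ g : G, g ≠ 1 → IsPrimePow (orderOf g)) :
    Nonempty (G ≃* alternatingGroup (Fin 6)) ∨
    (∃ (F : Type) (_ : Field F) (_ : Fintype F), Fintype.card F ∈ ({4, 7, 8, 17} : Finset ℕ) ∧
      Nonempty (G ≃* Matrix.ProjectiveSpecialLinearGroup (Fin 2) F)) ∨
    (∃ (F : Type) (_ : Field F) (_ : Fintype F), Fintype.card F = 4 ∧
      Nonempty (G ≃* Matrix.ProjectiveSpecialLinearGroup (Fin 3) F)) ∨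
    (∃ (F : Type) (_ : Field F) (_ : Fintype F),
      (Fintype.card F = 8 ∧ Nonempty (G ≃* ↥(Cfsg.Lie.Sz F 4))) ∨ (Fintype.card F = 32 ∧ Nonempty (G ≃* ↥(Cfsg.Lie.Sz F 8)))) := by
  change Concl G
  by_cases he : 2 ∣ Nat.card G
  swap
  · have := EP.odd (Nat.odd_iff.2 (by omega)) h
    exact absurd ⟨⟨IsSimpleGroup.comm_iff_isSolvable.2 this⟩⟩ hG
  rcases ti_or_loc hG h he with ⟨S, T⟩ | ⟨V, T, A, L⟩
  · exact T.concl hG
  obtain ⟨S, hS, hT⟩ := Frob.exists_isSyl le_top L.syl.2.1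
  by_cases h2 : Nat.card (V ⊓ A : Subgroup G) = 2
  · have hc : Ce V = V := by
      by_cases e : S ≤ T
      · exact L.cen_of_syl (le_antisymm e hT ▸ hS) hG
      · obtain ⟨x, x1, x2, x3⟩ := Frob.exists_norm_notMem hS.2.1 hT e
        exact L.cen_of_nm x3 fun e => x2 (syl_mem L.syl e x3 (pe_of_mem hS.2.1 x1))
    exact q2 hG h V (by rw [L.cV, h2]; rfl) hc (by rw [L.cH, hc, L.cV, h2]; rfl)
  obtain rfl := le_antisymm hT (L.is_syl hG h2 hS hT)
  have hc := L.cen_of_syl hS hG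
  obtain ⟨L', hc'⟩ := L.sym_of_syl hc hG hS
  obtain ⟨F, _, _, h1, -⟩ := L.sl2 h2
  exact Or.inr (Or.inr (Or.inl ⟨F, inferInstance, inferInstance, h1.trans (L.four hc L' h2),
    l34 h (h1.trans (L.four hc L' h2)) (L.pb hc (syl_index hS) h1 h2)
      (L'.pb hc' (syl_index hS) (inf_comm V A ▸ h1) (inf_comm V A ▸ h2)) (L.ne_VA hc)⟩))

end Cfsg.Agent.S2497
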