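import Cfsg.Statements.S2516

set_option autoImplicit false
open Cfsg

namespace Cfsg.Agent.S2516

theorem pow_left {N G : Type*} [CommGroup N] [Group G] (φ : G →* MulAut N) (x : N ⋊[φ] G) (n : ℕ) :
    (x ^ n).left = ∏ i ∈ Finset.range n, φ (x.right ^ i) x.left ∧ (x ^ n).right = x.right ^ n := by
  induction n with
  | zero => simp
  | succ n ih =>
    rw [pow_succ, SemidirectProduct.mul_left, SemidirectProduct.mul_right, ih.1, ih.2, Finset.prod_range_succ, pow_succ]
    exact ⟨rfl, rfl⟩

/-- Let F be a field of characteristic p > 0, V a non-zero finite-dimensional F-vector space, G a finite group and ρ a representation of G on V; form the semidirect product V ⋊ G. For g ∈ G of order k, the coset Vg contains an element of order pk if and only if the minimal polynomial of ρ(g) does not divide 1 + X + ⋯ + X^(k−1). -/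
theorem result {F : Type*} [Field F] (p : ℕ) [Fact p.Prime] [CharP F p] {V : Type*} [AddCommGroup V] [Module F V] [FiniteDimensional F V] [Nontrivial V]
    {G : Type*} [Group G] [Finite G] (ρ : Representation F G V) (g : G) :
    (∃ x : Multiplicative V ⋊[(MulAutMultiplicative V).symm.toMonoidHom.comp
        ((DistribMulAction.toAddAut ((V →ₗ[F] V)ˣ) V).comp ρ.asGroupHom)] G,
        x.right = g ∧ orderOf x = p * orderOf g) ↔
      ¬ (minpoly F (ρ g) ∣ ∑ i ∈ Finset.range (orderOf g), (Polynomial.X : Polynomial F) ^ i) := by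
  set φ := (MulAutMultiplicative V).symm.toMonoidHom.comp
        ((DistribMulAction.toAddAut ((V →ₗ[F] V)ˣ) V).comp ρ.asGroupHom) with hφ
  have hφ' : ∀ (a : G) (v : Multiplicative V), φ a v = Multiplicative.ofAdd (ρ a (Multiplicative.toAdd v)) := by
    intro a v; rfl
  set k := orderOf g with hk
  have hkpos : 0 < k := orderOf_pos g
  have hp : p.Prime := Fact.out
  set S : V →ₗ[F] V := ∑ i ∈ Finset.range k, (ρ g) ^ i with hS
  have hpow : ∀ x : Multiplicative V ⋊[φ] G, x.right = g →
      x ^ k = SemidirectProduct.inl (Multiplicative.ofAdd (S (Multiplicative.toAdd x.left))) := by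
    intro x hx
    obtain ⟨h1, h2⟩ := pow_left φ x k
    ext
    · rw [h1, SemidirectProduct.left_inl, hS, LinearMap.sum_apply, ofAdd_sum, toAdd_prod, toAdd_prod]
      apply Finset.sum_congr rfl
      intro i _
      rw [hφ', hx, map_pow]
    · rw [h2, hx, hk, pow_orderOf_eq_one]; rfl
  have hiff : minpoly F (ρ g) ∣ ∑ i ∈ Finset.range k, (Polynomial.X : Polynomial F) ^ i ↔ S = 0 := by
    rw [minpoly.dvd_iff, map_sum]
    simp [hS]
  rw [hiff]
  have hpV : ∀ v : V, p • v = 0 := by
    intro v
    rw [← Nat.cast_smul_eq_nsmul F, CharP.cast_eq_zero, zero_smul]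
  have hord : ∀ x : Multiplicative V ⋊[φ] G, x.right = g → orderOf x = orderOf (x ^ k) * k := by
    intro x hx
    have h1 : k ∣ orderOf x := by
      rw [hk, orderOf_dvd_iff_pow_eq_one, ← hx, ← (pow_left φ x _).2, pow_orderOf_eq_one]; rfl
    rw [orderOf_pow' x hkpos.ne', Nat.gcd_eq_right h1, Nat.div_mul_cancel h1]
  constructor
  · rintro ⟨x, hx, ho⟩ hS0
    have h1 := hpow x hx
    have h2 := hord x hx
    rw [hS0] at h1
    simp only [LinearMap.zero_apply, ofAdd_zero, map_one] at h1
    rw [h1, orderOf_one, ho] at h2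
    have := Nat.eq_of_mul_eq_mul_right hkpos h2
    exact hp.one_lt.ne' this
  · intro hS0
    obtain ⟨v, hv⟩ : ∃ v, S v ≠ 0 := by
      by_contra h
      push Not at h
      exact hS0 (LinearMap.ext h)
    refine ⟨⟨Multiplicative.ofAdd v, g⟩, rfl, ?_⟩
    rw [hord _ rfl, hpow _ rfl, orderOf_injective _ SemidirectProduct.inl_injective]
    congr 1
    apply orderOf_eq_prime
    · rw [← ofAdd_nsmul, hpV]; rfl
    · simpa using hv

end Cfsg.Agent.S2516
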