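import Cfsg.Statements.S2517
import Cfsg.Agent.HForm.OBlk
import Cfsg.Agent.S2516

set_option autoImplicit false
open Cfsg

namespace Cfsg.Agent.S2517

open Cfsg.Agent.HForm Cfsg.Agent.Forms Polynomial

section E
variable {K : Type*} [Field K] [DecidableEq K] {q : ℕ}

/-- invariant multisets without `±1` -/
def CI (q : ℕ) (C : Multiset K) : Prop :=
  C.map (fun y => y ^ q) = C ∧ C.map (·⁻¹) = C ∧ ∀ x ∈ C, x ≠ x⁻¹

/-- a single chunk -/
def Top (q D : ℕ) (C : Multiset K) : Prop :=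
  ∃ x N, TorN q D N ∧ x ^ N = 1 ∧ x ≠ x⁻¹ ∧ C = chunk q D x

variable (hq0 : 0 < q) (hq : Function.Injective (fun y : K => y ^ q)) {C : Multiset K}
  (hC : CI q C)
include hq0 hq hC

theorem etop (D : ℕ) (h : C.card ≤ 2 * D) : Top q D C ∨ ∀ y ∈ C, ∃ d N C', 0 < d ∧ d < D ∧
    TorN q d N ∧ (∀ z ∈ chunk q d y, z ^ N = 1) ∧ y ^ N = 1 ∧ C = chunk q d y + C' ∧ CI q C' ∧
      C'.card + 2 * d ≤ 2 * D := by
  by_contra h1
  push Not at h1
  obtain ⟨h1, y, hy, h2⟩ := h1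
  obtain ⟨d, N, C', hd, hN, hyN, -, -, -, hCC, h3⟩ := chunk_split hq0 hq hC.1 hC.2.1 hC.2.2 hy
  have hc := congrArg Multiset.card hCC
  rw [Multiset.card_add, card_chunk] at hc
  by_cases hdD : d < D
  · have := h2 d N C' hd hdD hN (fun z hz => (orderOf_of_mem_chunk hq hz _).mpr hyN) hyN hCC h3
    omega
  · obtain rfl : d = D := by omega
    obtain rfl : C' = 0 := Multiset.card_eq_zero.mp (by omega)
    exact h1 ⟨y, N, hN, hyN, hC.2.2 y hy, by simpa using hCC⟩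

theorem e1 (h : C.card ≤ 2) : Top q 1 C ∨ C = 0 := by
  refine (etop hq0 hq hC 1 h).imp id fun h => Multiset.eq_zero_of_forall_notMem fun y hy => ?_
  obtain ⟨d, -, -, h1, h2, -⟩ := h y hy
  omega

theorem ex1 (h : C.card ≤ 2) : ∃ N, TorN q 1 N ∧ ∀ y ∈ C, y ^ N = 1 := by
  rcases e1 hq0 hq hC h with ⟨x, N, hN, hx, -, rfl⟩ | rfl
  · exact ⟨N, hN, fun z hz => (orderOf_of_mem_chunk hq hz _).mpr hx⟩
  · exact ⟨q + 1, Or.inr (by simp), by simp⟩

omit hq0 hq hC [DecidableEq K] in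
theorem pw {y : K} {N M : ℕ} (h : y ^ N = 1) (hd : N ∣ M) : y ^ M = 1 := by
  obtain ⟨t, rfl⟩ := hd; rw [pow_mul, h, one_pow]

omit hq0 hq hC in
theorem tor1 {N : ℕ} (h : TorN q 1 N) : N = q - 1 ∨ N = q + 1 := by
  rcases h with h | h <;> simp at h <;> omega

omit hq0 hq hC in
theorem tor1_dvd {N : ℕ} (h : TorN q 1 N) : N ∣ q ^ 2 - 1 := by
  rw [show q ^ 2 - 1 = (q + 1) * (q - 1) by rw [← Nat.sq_sub_sq, one_pow]]
  rcases tor1 h with rfl | rfl
  · exact dvd_mul_left _ _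
  · exact dvd_mul_right _ _

theorem e2 (h : C.card ≤ 4) : Top q 2 C ∨ ∀ y ∈ C, y ^ Nat.lcm (q - 1) (q + 1) = 1 := by
  refine (etop hq0 hq hC 2 h).imp id fun h y hy => ?_
  obtain ⟨d, N, -, h1, h2, hN, -, hy, -⟩ := h y hy
  obtain rfl : d = 1 := by omega
  rcases tor1 hN with rfl | rfl
  · exact pw hy (Nat.dvd_lcm_left _ _)
  · exact pw hy (Nat.dvd_lcm_right _ _)

theorem e3 (h : C.card ≤ 6) : Top q 3 C ∨
    ∃ N N', TorN q 2 N ∧ TorN q 1 N' ∧ ∀ y ∈ C, y ^ Nat.lcm N N' = 1 := by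
  refine (etop hq0 hq hC 3 h).imp id fun h => ?_
  by_cases h1 : ∀ y ∈ C, y ^ (q ^ 2 - 1) = 1
  · exact ⟨q ^ 2 - 1, q + 1, Or.inl (Nat.sub_add_cancel (Nat.one_le_pow _ _ hq0)),
      Or.inr (by simp), fun y hy => pw (h1 y hy) (Nat.dvd_lcm_left _ _)⟩
  push Not at h1
  obtain ⟨y, hy, hy1⟩ := h1
  obtain ⟨d, N, C', h1, h2, hN, h3, h4, hCC, hC', h5⟩ := h y hy
  have hd : d ≠ 1 := by rintro rfl; exact hy1 (pw h4 (tor1_dvd hN))
  obtain rfl : d = 2 := by omega
  obtain ⟨N', hN', h6⟩ := ex1 hq0 hq hC' (by omega)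
  refine ⟨N, N', hN, hN', fun z hz => ?_⟩
  rcases Multiset.mem_add.mp (hCC ▸ hz) with hz | hz
  · exact pw (h3 z hz) (Nat.dvd_lcm_left _ _)
  · exact pw (h6 z hz) (Nat.dvd_lcm_right _ _)

theorem e4 (h : C.card ≤ 8) : Top q 4 C ∨ (∀ y ∈ C, y ^ Nat.lcm (q ^ 2 + 1) (q ^ 2 - 1) = 1) ∨
    (∀ y ∈ C, y ^ Nat.lcm (q ^ 3 + 1) (q - 1) = 1) ∨
    (∀ y ∈ C, y ^ Nat.lcm (q ^ 3 - 1) (q + 1) = 1) := by
  refine (etop hq0 hq hC 4 h).imp id fun h => ?_
  by_cases h1 : ∀ y ∈ C, y ^ Nat.lcm (q ^ 2 + 1) (q ^ 2 - 1) = 1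
  · exact Or.inl h1
  right
  push Not at h1
  obtain ⟨y, hy, hy1⟩ := h1
  obtain ⟨d, N, C', h1, h2, hN, h3, h4, hCC, hC', h5⟩ := h y hy
  have hd : d ≠ 1 := by
    rintro rfl; exact hy1 (pw h4 ((tor1_dvd hN).trans (Nat.dvd_lcm_right _ _)))
  have hd2 : d ≠ 2 := by
    rintro rfl
    rcases hN with hN | rfl
    · exact hy1 (pw h4 (by rw [← hN]; exact Nat.dvd_lcm_right _ _))
    · exact hy1 (pw h4 (Nat.dvd_lcm_left _ _))
  obtain rfl : d = 3 := by omega
  obtain ⟨N', hN', h6⟩ := ex1 hq0 hq hC' (by omega)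
  have key : ∀ M, N ∣ M → N' ∣ M → ∀ y ∈ C, y ^ M = 1 := fun M a b z hz => by
    rcases Multiset.mem_add.mp (hCC ▸ hz) with hz | hz
    · exact pw (h3 z hz) a
    · exact pw (h6 z hz) b
  rcases hN with hN | rfl
  · obtain rfl : N = q ^ 3 - 1 := by omega
    right
    refine key _ (Nat.dvd_lcm_left _ _) ?_
    rcases tor1 hN' with rfl | rfl
    · exact dvd_trans (by simpa using Nat.sub_dvd_pow_sub_pow q 1 3) (Nat.dvd_lcm_left _ _)
    · exact Nat.dvd_lcm_right _ _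
  · left
    refine key _ (Nat.dvd_lcm_left _ _) ?_
    rcases tor1 hN' with rfl | rfl
    · exact Nat.dvd_lcm_right _ _
    · exact dvd_trans (by simpa using Odd.nat_add_dvd_pow_add_pow q 1 (by decide : Odd 3))
        (Nat.dvd_lcm_left _ _)

end E

section UB
variable (F : Type*) [Field F] [Fintype F]

/-- the common list of orders -/
def InL (p t : ℕ) : Prop := (∃ M, Blk F 8 (-1) M ∧ t ∣ M) ∨
  ∃ n D M j, Blk F (2 * n) D M ∧ 2 * n + p ^ j + 1 ≤ 8 ∧ ¬ p ∣ M ∧ t ∣ M * p ^ (j + 1)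

variable {F}

theorem InL.of_dvd {p t t' : ℕ} (h : InL F p t) (ht : t' ∣ t) : InL F p t' := by
  rcases h with ⟨M, h1, h2⟩ | ⟨n, D, M, j, h1, h2, h3, h4⟩
  · exact Or.inl ⟨M, h1, ht.trans h2⟩
  · exact Or.inr ⟨n, D, M, j, h1, h2, h3, ht.trans h4⟩

theorem half_dvd_lcm {q : ℕ} (hq : Odd q) : (q ^ 4 - 1) / 2 ∣ Nat.lcm (q ^ 2 + 1) (q ^ 2 - 1) := by
  obtain ⟨c, hc⟩ := hq.pow (n := 2)
  have e : q ^ 4 - 1 = 2 * ((c + 1) * (2 * c)) := by
    rw [show q ^ 4 = (q ^ 2) ^ 2 by ring, hc]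
    apply Nat.sub_eq_of_eq_add; ring
  obtain ⟨k, rfl⟩ := hq
  have hc' : c = 2 * (k * (k + 1)) := by nlinarith
  rw [e, Nat.mul_div_cancel_left _ two_pos, hc, Nat.add_sub_cancel]
  refine Nat.Coprime.mul_dvd_of_dvd_of_dvd ?_ (dvd_trans ⟨2, by ring⟩ (Nat.dvd_lcm_left _ _))
    (Nat.dvd_lcm_right _ _)
  refine Nat.Coprime.mul_right ?_ (by simp)
  rw [hc']
  exact (odd_two_mul_add_one _).coprime_two_right

theorem ub (hF : Odd (Fintype.card F)) (p : ℕ) [hp : Fact p.Prime] [CharP F p]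
    {K : Type*} [Field K] [Algebra F K] [IsAlgClosed K] [DecidableEq K] {R : Multiset K}
    (hR : R.map (fun y => y ^ Fintype.card F) = R) (hR' : R.map (·⁻¹) = R) (h0 : (0 : K) ∉ R)
    (hcard : R.card = 9) (hprod : R.prod = 1) (hth : ThetaOk (Fintype.card F) R) {k : ℕ}
    (hk : k = 0 ∨ (∃ y, y ≠ -1 ∧ p ^ (k - 1) < R.count y) ∨ p ^ (k - 1) + 1 < R.count (-1)) :
    ∃ M, (∀ y ∈ R, y ^ M = 1) ∧ InL F p (M * p ^ k) := by
  have h2 := two_ne_zero_of_odd hF
  have h2K : (2 : K) ≠ 0 := by rw [← map_ofNat (algebraMap F _) 2]; simpa using h2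
  have hp2 : p ≠ 2 := by rintro rfl; exact h2 CharTwo.two_eq_zero
  have hp3 : 3 ≤ p := by have := hp.out.two_le; omega
  have hinj : Function.Injective (fun y : K => y ^ Fintype.card F) := frob_injective
  have hq0 : 0 < Fintype.card F := Fintype.card_pos
  have hq3 : 3 ≤ Fintype.card F := by
    have : 1 < Fintype.card F := Fintype.one_lt_card
    obtain ⟨k, hk⟩ := hF; omega
  obtain ⟨C, hRC, hC1, hC2, hC3, hCc, ⟨u, hu⟩, ⟨v, hv⟩⟩ := sign_decomp h2K hinj hR hR' h0 hprod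
  have hC : CI (Fintype.card F) C := ⟨hC1, hC2, hC3⟩
  have hS : CI (Fintype.card F) (core C) :=
    ⟨core_frob hinj hC1, core_inv hC2, fun x hx => (mem_core.mp hx).2⟩
  have hcc := congrArg Multiset.card hRC
  simp only [Multiset.card_add, Multiset.card_replicate, hcard] at hcc
  have hex : ∀ M, Even M → (∀ y ∈ core C, y ^ M = 1) → ∀ y ∈ R, y ^ M = 1 := by
    intro M hM h y hy
    rw [hRC, Multiset.mem_add, Multiset.mem_add] at hy
    rcases hy with (hy | hy) | hy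
    · exact h y (mem_core.mpr ⟨hy, hC3 y hy⟩)
    · rw [Multiset.eq_of_mem_replicate hy, one_pow]
    · rw [Multiset.eq_of_mem_replicate hy, hM.neg_one_pow]
  have hex' : ∀ M, Even M → (∀ y ∈ C, y ^ M = 1) → ∀ y ∈ R, y ^ M = 1 := fun M hM h =>
    hex M hM fun y hy => h y (mem_core.mp hy).1
  have htop : ∀ D, 0 < D → Top (Fintype.card F) D C → R.count (-1) = 0 →
      ∃ N, TorN (Fintype.card F) D N ∧ ∀ y ∈ R, y ^ (N / 2) = 1 := by
    rintro D hD ⟨x, N, hN, hx, hx1, hCx⟩ hb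
    rw [hb, Multiset.replicate_zero, add_zero, hCx] at hRC
    have h3 := hth.chunk hF hD hN hx (fun h => hx1 (by simp [h])) hx1 hRC
      fun y hy => Multiset.eq_of_mem_replicate hy
    refine ⟨N, hN, fun y hy => ?_⟩
    rw [hRC] at hy
    rcases Multiset.mem_add.mp hy with hy | hy
    · exact (orderOf_of_mem_chunk hinj hy _).mpr h3
    · rw [Multiset.eq_of_mem_replicate hy, one_pow]
  have hcardT : ∀ {D} {T : Multiset K}, Top (Fintype.card F) D T → T.card = 2 * D := by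
    rintro D T ⟨x, N, -, -, -, rfl⟩; exact card_chunk _ _ _
  have hev : ∀ {d N}, TorN (Fintype.card F) d N → Even N := fun {d N} h => ⟨N / 2, by
    have := h.two_mul hF; omega⟩
  have hnd : ∀ {d N}, 0 < d → TorN (Fintype.card F) d N → ¬ p ∣ N := fun hd h => h.not_dvd p hd
  have hnd2 : ∀ {d N}, 0 < d → TorN (Fintype.card F) d N → ¬ p ∣ N / 2 := fun hd h h' =>
    hnd hd h (h'.trans (Dvd.intro_left 2 (h.two_mul hF)))
  have hnd3 : ∀ {a b}, ¬ p ∣ a → ¬ p ∣ b → ¬ p ∣ Nat.lcm a b := fun h h' h'' =>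
    (hp.out.dvd_lcm.mp h'').elim h h'
  have hm : ∀ d, TorN (Fintype.card F) d (Fintype.card F ^ d - 1) := fun d =>
    Or.inl (Nat.sub_add_cancel (Nat.one_le_pow _ _ hq0))
  have hpl : ∀ d, TorN (Fintype.card F) d (Fintype.card F ^ d + 1) := fun d => Or.inr rfl
  have hm1 : TorN (Fintype.card F) 1 (Fintype.card F - 1) := by simpa using hm 1
  have hp1 : TorN (Fintype.card F) 1 (Fintype.card F + 1) := by simpa using hpl 1
  have hbig : ∀ {d N}, 2 ≤ d → TorN (Fintype.card F) d N → 2 < N / 2 := by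
    intro d N hd hN
    have : 3 ^ 2 ≤ Fintype.card F ^ d :=
      (Nat.pow_le_pow_left hq3 2).trans (Nat.pow_le_pow_right hq0 hd)
    rcases hN with h | h <;> omega
  have hbig' : ∀ {d N}, 2 ≤ d → TorN (Fintype.card F) d N → 2 < N := fun hd hN => by
    have := hbig hd hN; omega
  have hsgn : ∀ {a : ℕ}, Odd a → (-1 : F) ^ a = -1 := fun h => h.neg_one_pow
  obtain ⟨c, hc⟩ := id hF
  have hA2 : Blk F 8 (-1) (Nat.lcm (Fintype.card F ^ 2 + 1) (Fintype.card F ^ 2 - 1)) := by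
    have := blk_pair hF two_pos (hpl 2) two_pos (hm 2) (Or.inr (hbig' le_rfl (hpl 2)))
      (Or.inr (hbig' le_rfl (hm 2)))
    rwa [hsgn ⟨2 * c * c + 2 * c, by
      have : Fintype.card F ^ 2 = 2 * (2 * c * c + 2 * c) + 1 := by rw [hc]; ring
      omega⟩] at this
  rcases Nat.eq_zero_or_pos k with rfl | hk0
  · simp only [pow_zero, mul_one]
    rcases e4 hq0 hinj hC (by omega) with h | h | h | h
    · obtain ⟨N, hN, h3⟩ := htop 4 (by omega) h (by have := hcardT h; omega)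
      refine ⟨_, h3, Or.inl ?_⟩
      rcases id hN with h4 | h4
      · exact ⟨_, hA2, by rw [show N = Fintype.card F ^ 4 - 1 by omega]; exact half_dvd_lcm hF⟩
      · have := blk_half hF (by omega) hN dvd_rfl (Or.inr (hbig (by omega) hN))
        rw [hsgn ⟨4 * c ^ 4 + 8 * c ^ 3 + 6 * c ^ 2 + 2 * c, by
          have : N = 2 * (2 * (4 * c ^ 4 + 8 * c ^ 3 + 6 * c ^ 2 + 2 * c) + 1) := by
            rw [h4, hc]; ring
          omega⟩] at this
        exact ⟨_, this, dvd_rfl⟩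
    · exact ⟨_, hex' _ ((hev (hm 2)).trans_dvd (Nat.dvd_lcm_right _ _)) h,
        Or.inl ⟨_, hA2, dvd_rfl⟩⟩
    · refine ⟨_, hex' _ ((hev hm1).trans_dvd (Nat.dvd_lcm_right _ _)) h, Or.inl ⟨_, ?_, dvd_rfl⟩⟩
      have := blk_pair hF three_pos (hpl 3) one_pos hm1 (Or.inr (hbig' (by omega) (hpl 3)))
        (Or.inl rfl)
      rwa [hsgn ⟨2 * c ^ 3 + 3 * c ^ 2 + 2 * c, by
        have : Fintype.card F ^ 3 = 2 * (4 * c ^ 3 + 6 * c ^ 2 + 3 * c) + 1 := by rw [hc]; ring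
        omega⟩] at this
    · refine ⟨_, hex' _ ((hev hp1).trans_dvd (Nat.dvd_lcm_right _ _)) h, Or.inl ⟨_, ?_, dvd_rfl⟩⟩
      have := blk_pair hF three_pos (hm 3) one_pos hp1 (Or.inr (hbig' (by omega) (hm 3)))
        (Or.inl rfl)
      rwa [hsgn ⟨2 * c ^ 3 + 3 * c ^ 2 + 2 * c, by
        have : Fintype.card F ^ 3 = 2 * (4 * c ^ 3 + 6 * c ^ 2 + 3 * c) + 1 := by rw [hc]; ring
        omega⟩] at this
  obtain ⟨j, rfl⟩ : ∃ j, k = j + 1 := ⟨k - 1, by omega⟩
  rw [Nat.add_sub_cancel] at hk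
  have hSC := Multiset.card_le_card (core_le C)
  -- the three sources of unipotent parts
  have hcase : p ^ j < R.count 1 ∨ p ^ j + 1 < R.count (-1) ∨
      ∃ y ∈ C, p ^ j < C.count y ∧ (core C).card + 2 * p ^ j ≤ C.card := by
    rcases hk with h | ⟨y, hy, h⟩ | h
    · omega
    · have hyR : y ∈ R := Multiset.count_pos.mp (by omega)
      by_cases hy1 : y = y⁻¹
      · rcases eq_one_or_neg_one_of_eq_inv (fun h => h0 (h ▸ hyR)) hy1 with rfl | rfl
        · exact Or.inl h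
        · exact absurd rfl hy
      · rw [← hCc y hy1] at h
        have hyC : y ∈ C := Multiset.count_pos.mp (by omega)
        have := card_core_add_two_count_le hC2 hy1 hyC
        exact Or.inr (Or.inr ⟨y, hyC, h, by omega⟩)
    · exact Or.inr (Or.inl h)
  have hpo : Odd (p ^ j) := (hp.out.odd_of_ne_two hp2).pow
  obtain ⟨w, hw⟩ := hpo
  rcases Nat.eq_zero_or_pos j with rfl | hj0
  · rw [pow_zero] at hcase
    rcases e3 hq0 hinj hS (by rcases hcase with h | h | ⟨_, _, _, h⟩ <;> omega) with h | h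
    · have h3 := hcardT h
      have h4 : C.card = 6 ∧ R.count (-1) = 0 := by
        rcases hcase with h' | h' | ⟨y, hy, h5, h6⟩
        · omega
        · omega
        exfalso
        obtain ⟨x, N, -, -, -, hx⟩ := h
        have h7 : 2 • core C ≤ C := by
          rw [Multiset.le_iff_count]
          intro z
          rw [Multiset.count_nsmul]
          by_cases hz : z ∈ core C
          · rw [Multiset.count_eq_one_of_mem (core_nodup C) hz, count_chunk hinj hC1 hC2 (hx ▸ hz),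
              ← count_chunk hinj hC1 hC2 (hx ▸ mem_core.mpr ⟨hy, hC3 y hy⟩)]
            omega
          · simp [Multiset.count_eq_zero_of_notMem hz]
        have := Multiset.card_le_card h7
        rw [Multiset.card_nsmul] at this
        omega
      rw [Multiset.eq_of_le_of_card_le (core_le C) (by omega)] at h
      obtain ⟨N, hN, h5⟩ := htop 3 (by omega) h h4.2
      exact ⟨_, h5, Or.inr ⟨3, _, _, 0, blk_half hF (by omega) hN dvd_rfl
        (Or.inr (hbig (by omega) hN)), by simp, hnd2 (by omega) hN, dvd_rfl⟩⟩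
    · obtain ⟨N, N', hN, hN', h⟩ := h
      exact ⟨_, hex _ ((hev hN).trans_dvd (Nat.dvd_lcm_left _ _)) h, Or.inr ⟨3, _, _, 0,
        blk_pair hF two_pos hN one_pos hN' (Or.inr (hbig' le_rfl hN)) (Or.inl rfl), by simp,
        hnd3 (hnd two_pos hN) (hnd one_pos hN'), dvd_rfl⟩⟩
  have hpj : 3 ≤ p ^ j := hp3.trans (Nat.le_self_pow hj0.ne' p)
  have hj8 : p ^ j ≤ 7 := by rcases hcase with h | h | ⟨_, _, _, h⟩ <;> omega
  by_cases h3 : p ^ j = 3
  · by_cases ha : 3 < R.count 1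
    · rcases e2 hq0 hinj hC (by omega) with h | h
      · obtain ⟨N, hN, h5⟩ := htop 2 (by omega) h (by have := hcardT h; omega)
        exact ⟨_, h5, Or.inr ⟨2, _, _, j, blk_half hF (by omega) hN dvd_rfl
          (Or.inr (hbig (by omega) hN)), by omega, hnd2 (by omega) hN, dvd_rfl⟩⟩
      · exact ⟨_, hex' _ ((hev hm1).trans_dvd (Nat.dvd_lcm_left _ _)) h, Or.inr ⟨2, _, _, j,
          blk_pair hF one_pos hm1 one_pos hp1 (Or.inl rfl) (Or.inl rfl), by omega,
          hnd3 (hnd one_pos hm1) (hnd one_pos hp1), dvd_rfl⟩⟩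
    · obtain ⟨N, hN, h⟩ := ex1 hq0 hinj hS (by rcases hcase with h | h | ⟨_, _, _, h⟩ <;> omega)
      exact ⟨_, hex _ ((hev hN).trans_dvd (Nat.dvd_lcm_left _ _))
        (fun y hy => pw (h y hy) (Nat.dvd_lcm_left _ _)), Or.inr ⟨2, _, _, j,
          blk_pair hF one_pos hN one_pos hp1 (Or.inl rfl) (Or.inl rfl), by omega,
          hnd3 (hnd one_pos hN) (hnd one_pos hp1), dvd_rfl⟩⟩
  by_cases h5 : p ^ j = 5
  · rcases e1 hq0 hinj hC (by rcases hcase with h | h | ⟨_, _, _, h⟩ <;> omega) with h | h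
    · have := hcardT h
      obtain ⟨N, hN, h6⟩ := htop 1 one_pos h (by rcases hcase with h | h | ⟨_, _, _, h⟩ <;> omega)
      exact ⟨_, h6, Or.inr ⟨1, _, _, j, blk_half hF one_pos hN dvd_rfl (Or.inl rfl), by omega,
        hnd2 one_pos hN, dvd_rfl⟩⟩
    · exact ⟨2, hex' 2 even_two (by simp [h]), Or.inr ⟨1, _, _, j, blk_neg hF, by omega,
        fun h => by have := Nat.le_of_dvd two_pos h; omega, dvd_rfl⟩⟩
  have h7 : C.card = 0 ∧ R.count (-1) = 0 := by
    rcases hcase with h | h | ⟨_, _, _, h⟩ <;> omega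
  refine ⟨1, fun y hy => ?_, Or.inr ⟨0, _, _, j, blk_id hF 0, by omega,
    fun h => by have := Nat.le_of_dvd one_pos h; omega, dvd_rfl⟩⟩
  rw [hRC, Multiset.card_eq_zero.mp h7.1, h7.2] at hy
  simpa using Multiset.eq_of_mem_replicate (by simpa using hy)

theorem exists_k {K : Type*} [Field K] [DecidableEq K] (R : Multiset K) {p : ℕ} (hp : 2 ≤ p) :
    ∃ k, ((∀ y, y ≠ -1 → R.count y ≤ p ^ k) ∧ R.count (-1) ≤ p ^ k + 1) ∧
      (k = 0 ∨ (∃ y, y ≠ -1 ∧ p ^ (k - 1) < R.count y) ∨ p ^ (k - 1) + 1 < R.count (-1)) := by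
  classical
  have hex : ∃ k, (∀ y, y ≠ -1 → R.count y ≤ p ^ k) ∧ R.count (-1) ≤ p ^ k + 1 := by
    obtain ⟨k, hk, -⟩ := exists_min_pow_count R p hp
    exact ⟨k, fun y _ => hk y, (hk _).trans (Nat.le_succ _)⟩
  refine ⟨Nat.find hex, Nat.find_spec hex, ?_⟩
  rcases Nat.eq_zero_or_pos (Nat.find hex) with h | h
  · exact Or.inl h
  right
  have := Nat.find_min hex (by omega : Nat.find hex - 1 < Nat.find hex)
  by_contra h1
  push Not at h1
  exact this ⟨h1.1, h1.2⟩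

end UB

section semi
variable {F : Type*} [Field F] {V : Type*} [AddCommGroup V] [Module F V] {G : Type*} [Group G]
  (φ : G →* MulAut (Multiplicative V)) (ρ : G →* Module.End F V)
  (hφ : ∀ a v, φ a v = Multiplicative.ofAdd (ρ a v.toAdd))
include hφ

theorem pow_order (x : Multiplicative V ⋊[φ] G) : x ^ orderOf x.right = SemidirectProduct.inl
    (Multiplicative.ofAdd ((∑ i ∈ Finset.range (orderOf x.right), ρ x.right ^ i) x.left.toAdd)) := by
  obtain ⟨h1, h2⟩ := S2516.pow_left φ x (orderOf x.right)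
  ext
  · rw [h1, SemidirectProduct.left_inl, LinearMap.sum_apply, ofAdd_sum, toAdd_prod, toAdd_prod]
    apply Finset.sum_congr rfl
    intro i _
    rw [hφ, map_pow]
  · rw [h2, pow_orderOf_eq_one]; rfl

theorem semi_upper (p : ℕ) [CharP F p] (x : Multiplicative V ⋊[φ] G) :
    orderOf x ∣ orderOf x.right ∨ (orderOf x ∣ orderOf x.right * p ∧
      ∑ i ∈ Finset.range (orderOf x.right), ρ x.right ^ i ≠ 0) := by
  have h := pow_order φ ρ hφ x
  by_cases h0 : ∑ i ∈ Finset.range (orderOf x.right), ρ x.right ^ i = 0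
  · left
    rw [orderOf_dvd_iff_pow_eq_one, h, h0]; simp
  · refine Or.inr ⟨?_, h0⟩
    rw [orderOf_dvd_iff_pow_eq_one, pow_mul, h, ← map_pow, ← ofAdd_nsmul,
      ← Nat.cast_smul_eq_nsmul F, CharP.cast_eq_zero, zero_smul]
    simp

theorem semi_lower (p : ℕ) [hp : Fact p.Prime] [CharP F p] [Finite G] (g : G)
    (h : ∑ i ∈ Finset.range (orderOf g), ρ g ^ i ≠ 0) :
    ∃ x : Multiplicative V ⋊[φ] G, orderOf x = orderOf g * p := by
  obtain ⟨v, hv⟩ : ∃ v, (∑ i ∈ Finset.range (orderOf g), ρ g ^ i) v ≠ 0 := by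
    by_contra h1
    push Not at h1
    exact h (LinearMap.ext h1)
  refine ⟨⟨Multiplicative.ofAdd v, g⟩, ?_⟩
  have h1 := pow_order φ ρ hφ ⟨Multiplicative.ofAdd v, g⟩
  have h2 : orderOf g ∣ orderOf (⟨Multiplicative.ofAdd v, g⟩ : Multiplicative V ⋊[φ] G) :=
    orderOf_map_dvd SemidirectProduct.rightHom
      (⟨Multiplicative.ofAdd v, g⟩ : Multiplicative V ⋊[φ] G)
  have h3 := orderOf_pow' (⟨Multiplicative.ofAdd v, g⟩ : Multiplicative V ⋊[φ] G)
    (orderOf_pos g).ne'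
  rw [Nat.gcd_eq_right h2, h1, orderOf_injective _ SemidirectProduct.inl_injective,
    orderOf_eq_prime (p := p) (by
      rw [← ofAdd_nsmul, ← Nat.cast_smul_eq_nsmul F, CharP.cast_eq_zero, zero_smul]; rfl)
      (fun h => hv (by simpa using congrArg Multiplicative.toAdd h))] at h3
  rw [h3, Nat.mul_div_cancel' h2]

end semi

theorem geom_iff {F : Type*} [Field F] {V : Type*} [AddCommGroup V] [Module F V]
    (g : Module.End F V) (o : ℕ) : ∑ i ∈ Finset.range o, g ^ i =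
      aeval g (∑ i ∈ Finset.range o, (X : F[X]) ^ i) := by simp

theorem general {F : Type*} [Field F] [Fintype F] (hF : Odd (Fintype.card F)) {ι : Type}
    [Fintype ι] [DecidableEq ι] {Q : QuadraticForm F (ι → F)} (hB : (pol Q).Nondegenerate)
    (hι : Fintype.card ι = 8) (hD : dsc Q = -1) (φ : Omega F Q →* MulAut (Multiplicative (ι → F)))
    (hφ : ∀ a v, φ a v = Multiplicative.ofAdd (olin a.1 v.toAdd)) :
    Set.range (orderOf : Cfsg.POmega F (Cfsg.quadFormOdd 4 F) → ℕ) =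
      Set.range (orderOf : Multiplicative (ι → F) ⋊[φ] Omega F Q → ℕ) := by
  classical
  obtain ⟨p, hp⟩ := CharP.exists F
  have : Fact p.Prime := ⟨CharP.char_is_prime F p⟩
  have hp' : p.Prime := Fact.out
  have h2 := two_ne_zero_of_odd hF
  have h2K : (2 : AlgebraicClosure F) ≠ 0 := by
    rw [← map_ofNat (algebraMap F _) 2]; simpa using h2
  have hp2 : p ≠ 2 := by rintro rfl; exact h2 CharTwo.two_eq_zero
  have hp3 : 3 ≤ p := by have := hp'.two_le; omega
  let ρ : Omega F Q →* Module.End F (ι → F) :=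
    ⟨⟨fun a => olin a.1, olin_one⟩, fun a b => olin_mul a.1 b.1⟩
  have : Finite (Multiplicative (ι → F) ⋊[φ] Omega F Q) :=
    Finite.of_equiv _ SemidirectProduct.equivProd.symm
  have hinj : Function.Injective (fun y : AlgebraicClosure F => y ^ Fintype.card F) :=
    frob_injective
  have hinr : ∀ g : Omega F Q, orderOf g ∈
      Set.range (orderOf : Multiplicative (ι → F) ⋊[φ] Omega F Q → ℕ) := fun g =>
    ⟨SemidirectProduct.inr g, orderOf_injective _ SemidirectProduct.inr_injective g⟩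
  have hA : ∀ x : Cfsg.POmega F (Cfsg.quadFormOdd 4 F), InL F p (orderOf x) := by
    intro x
    obtain ⟨R, h1, h3, h4, h5, h6, h7, -, h8, -⟩ := pomega_odd_data hF p (by omega) x
    obtain ⟨k, hk, hk'⟩ := exists_k R hp'.two_le
    obtain ⟨M, hM, hL⟩ := ub hF p h1 h3 h4 h5 h6 h7 hk'
    obtain ⟨-, -, -, -, -, -, -, he⟩ := sign_decomp h2K hinj h1 h3 h4 h6
    exact hL.of_dvd (h8 _ k (fun y hy => pw (hM y hy) (dvd_mul_right _ _)) (dvd_mul_left _ _)
      hk.1 he hk.2)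
  have hB' : ∀ t, InL F p t → t ∈ Set.range (orderOf : Cfsg.POmega F (Cfsg.quadFormOdd 4 F) → ℕ) := by
    rintro t (⟨M, h1, h3⟩ | ⟨n, D, M, j, h1, h3, h4, h5⟩)
    · exact mem_range_orderOf_of_dvd (Blk.toOdd' hF (n := 4) h1 (by omega) le_rfl) h3
    · obtain ⟨w, hw⟩ := (hp'.odd_of_ne_two hp2).pow (n := j)
      have := h1.toOdd hF p (e := w + 1) (j := j + 1) (m := 4) (by omega) (by omega)
        (by rw [pow_succ]; nlinarith) (by simp; omega)
      rw [(Nat.Coprime.pow_right _ (hp'.coprime_iff_not_dvd.mpr h4).symm).lcm_eq_mul] at this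
      exact mem_range_orderOf_of_dvd this h5
  have hC : ∀ x : Multiplicative (ι → F) ⋊[φ] Omega F Q, InL F p (orderOf x) := by
    intro x
    obtain ⟨g, hg⟩ : ∃ g, g = x.right := ⟨_, rfl⟩
    obtain ⟨hR, hR', h0, hcard⟩ := o_evs (AlgebraicClosure F) hB g.1
    have hprod := omega_evs_prod (AlgebraicClosure F) g
    have hth := (omega_thetaOk (AlgebraicClosure F) hF hB (by omega) g).cons_one hF
    have hpow : ∀ o k, _ → _ → _ → _ → _ → orderOf g ∣ o := fun o k a b c d e =>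
      orderOf_dvd_of_pow_eq_one
        (Subtype.ext (o_pow_eq_one (K := AlgebraicClosure F) h2 hB p g.1 o k a b c d e))
    have hc1 : (g.1.1.1.charpoly.aroots (AlgebraicClosure F)).count 1 =
        g.1.1.1.charpoly.rootMultiplicity 1 := by
      rw [eq_rootMultiplicity_map (algebraMap F (AlgebraicClosure F)).injective, map_one, aroots,
        count_roots]
    obtain ⟨R, hRg⟩ : ∃ R, R = g.1.1.1.charpoly.aroots (AlgebraicClosure F) := ⟨_, rfl⟩
    rw [← hRg] at hR hR' h0 hcard hprod hth hpow hc1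
    obtain ⟨-, -, -, -, -, -, -, he⟩ := sign_decomp h2K hinj hR hR' h0 hprod
    have hub := fun k => ub hF p (R := 1 ::ₘ R) (by simp [hR]) (by simp [hR']) (by simp [h0])
      (by simp [hcard, hι]) (by simp [hprod]) hth (k := k)
    have hne : (-1 : AlgebraicClosure F) ≠ 1 := fun h => h2K (by linear_combination -h)
    obtain ⟨k, hk, hk'⟩ := exists_k R hp'.two_le
    rcases semi_upper φ ρ hφ p x with h | ⟨h, hS⟩
    · obtain ⟨M, hM, hL⟩ := hub k (hk'.imp id fun h => h.imp (fun ⟨y, h1, h3⟩ =>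
        ⟨y, h1, h3.trans_le (Multiset.count_le_count_cons _ _ _)⟩)
        fun h => by rwa [Multiset.count_cons_of_ne hne])
      exact hL.of_dvd (h.trans (hg ▸ hpow _ k (fun y hy => pw (hM y (Multiset.mem_cons_of_mem hy))
        (dvd_mul_right _ _)) (dvd_mul_left _ _) hk.1 he hk.2))
    rw [← hg] at h hS
    obtain ⟨i, m, hm, him⟩ := Nat.exists_eq_pow_mul_and_not_dvd (orderOf_pos g).ne' p hp'.ne_one
    have hi : p ^ i ≤ R.count 1 := by
      have h3 := minpoly.dvd F (olin g.1) ((omega_pow_eq_one_iff g _).mp (pow_orderOf_eq_one g))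
      obtain ⟨t, ht⟩ := h3
      have h4 : ¬ X - C (1 : F) ∣ t := by
        rintro ⟨t', rfl⟩
        apply hS
        have h5 := mul_geom_sum (X : F[X]) (orderOf g)
        rw [← C_1, ht, mul_left_comm] at h5
        have h6 := mul_left_cancel₀ (X_sub_C_ne_zero 1) h5
        rw [geom_iff, h6, map_mul]
        exact (congrArg (· * _) (minpoly.aeval F (olin g.1))).trans (zero_mul _)
      have h5 : (X - C (1 : F)) ^ p ^ i ∣ X ^ orderOf g - C 1 :=
        (jordan_dvd_iff p 1 one_ne_zero _ i (pow_pos hp'.pos _) le_rfl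
          ((Nat.eq_zero_or_pos i).imp id fun h => Nat.pow_lt_pow_right hp'.one_lt (by omega)) _
          _).mpr ⟨one_pow _, him ▸ dvd_mul_right _ _⟩
      rw [ht] at h5
      have h6 := (((irreducible_X_sub_C (1 : F)).coprime_iff_not_dvd.mpr h4).pow_left
        (m := p ^ i)).dvd_of_dvd_mul_right h5
      rw [hc1, le_rootMultiplicity_iff g.1.1.1.charpoly_monic.ne_zero, ← charpoly_olin]
      exact h6.trans (LinearMap.minpoly_dvd_charpoly _)
    obtain ⟨M, hM, hL⟩ := hub (i + 1) (Or.inr (Or.inl ⟨1, hne.symm, by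
      rw [Multiset.count_cons_self, Nat.add_sub_cancel]; omega⟩))
    refine hL.of_dvd (h.trans ?_)
    have h3 := hpow (M * p ^ k) k (fun y hy => pw (hM y (Multiset.mem_cons_of_mem hy))
        (dvd_mul_right _ _)) (dvd_mul_left _ _) hk.1 he hk.2
    rw [him] at h3 ⊢
    have h4 : m ∣ M := (Nat.Coprime.pow_right _
      (hp'.coprime_iff_not_dvd.mpr hm).symm).dvd_of_dvd_mul_right ((dvd_mul_left _ _).trans h3)
    rw [pow_succ, mul_comm (p ^ i) m, mul_assoc]
    exact Nat.mul_dvd_mul_right h4 _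
  have hD' : ∀ t, InL F p t →
      t ∈ Set.range (orderOf : Multiplicative (ι → F) ⋊[φ] Omega F Q → ℕ) := by
    rintro t (⟨M, ⟨Z, h1, h6⟩, h3⟩ | ⟨n, D, M, j, h1, h3, h4, h5⟩)
    · obtain ⟨g, hg⟩ := (h1.congr hι.symm hD.symm rfl rfl fun _ => Iff.rfl).toOmega hF hB (by omega)
      exact mem_range_orderOf_of_dvd (hinr g) (h3.trans (h6 _ ((hg _).mp
        ((omega_pow_eq_one_iff g _).mp (pow_orderOf_eq_one g)))))
    obtain ⟨w, hw⟩ := (hp'.odd_of_ne_two hp2).pow (n := j)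
    obtain ⟨Z, h6, h7⟩ := h1.sum hF (blk_id hF (8 - 2 * n - p ^ j))
    obtain ⟨g, hg⟩ := ((h6.sum hF (oform_jordan hF w (D := -(D * 1)) (by
      rcases h6.sign hF with h | h <;> simp [h]))).congr (n' := Fintype.card ι) (by omega)
      (D' := dsc Q) (by rw [hD]; rcases h6.sign hF with h | h <;> simp [h]) (one_mul _) (one_mul _)
      fun _ => Iff.rfl).toOmega hF hB (by omega)
    obtain ⟨h8, h9⟩ := (hg _).mp ((omega_pow_eq_one_iff g _).mp (pow_orderOf_eq_one g))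
    have hM := (Nat.dvd_lcm_left _ _).trans (h7 _ h8)
    have hcop : ∀ k, Nat.Coprime M (p ^ k) := fun k =>
      Nat.Coprime.pow_right _ (hp'.coprime_iff_not_dvd.mpr h4).symm
    by_cases h10 : p ^ (j + 1) ∣ orderOf g
    · exact mem_range_orderOf_of_dvd (hinr g)
        (h5.trans ((hcop _).mul_dvd_of_dvd_of_dvd hM h10))
    rw [← hw, jordan_dvd_iff p 1 one_ne_zero _ j (pow_pos hp'.pos _) le_rfl
      ((Nat.eq_zero_or_pos j).imp id fun h => Nat.pow_lt_pow_right hp'.one_lt (by omega))] at h9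
    refine mem_range_orderOf_of_dvd (semi_lower φ ρ hφ p g fun h => h10 ?_) (h5.trans ?_)
    · rw [geom_iff] at h
      have h11 := mul_dvd_mul_left (X - C 1) ((hg _).mp h).2
      rw [← pow_succ', C_1, mul_geom_sum, ← C_1, ← hw] at h11
      exact ((jordan_dvd_iff p 1 one_ne_zero _ (j + 1) (by omega) (by rw [pow_succ]; nlinarith)
        (by simp) _ _).mp h11).2
    · rw [pow_succ, ← mul_assoc]
      exact Nat.mul_dvd_mul_right ((hcop _).mul_dvd_of_dvd_of_dvd hM h9.2) _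
  apply Set.Subset.antisymm
  · rintro _ ⟨x, rfl⟩; exact hD' _ (hA x)
  · rintro _ ⟨x, rfl⟩; exact hB' _ (hC x)

/-- Let F be a finite field of odd order q, let Ω₉ be the simple orthogonal group PΩ(9, F), and let Ω₈⁻ be the commutator subgroup of the isometry group of a minus-type non-singular quadratic form on V = F⁸ (the simple group PΩ⁻(8, F), acting on its natural module V). Then Ω₉ and the semidirect product V ⋊ Ω₈⁻ have exactly the same set of element orders. -/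
theorem result {F : Type*} [Field F] [Fintype F] (hF : Odd (Fintype.card F)) (a b : F)
    (hab : ∀ z₁ z₂ : F, z₁ ^ 2 + a * z₁ * z₂ + b * z₂ ^ 2 = 0 → z₁ = 0 ∧ z₂ = 0) :
    Set.range (orderOf : Cfsg.POmega F (Cfsg.quadFormOdd 4 F) → ℕ) =
      Set.range (orderOf :
        (Multiplicative (((Fin 3 ⊕ Fin 3) ⊕ Fin 2) → F)) ⋊[
          (MulAutMultiplicative (((Fin 3 ⊕ Fin 3) ⊕ Fin 2) → F)).symm.toMonoidHom.comp
           ((DistribMulAction.toAddAut (LinearMap.GeneralLinearGroup F (((Fin 3 ⊕ Fin 3) ⊕ Fin 2) → F))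
              (((Fin 3 ⊕ Fin 3) ⊕ Fin 2) → F)).comp
            (Matrix.GeneralLinearGroup.toLin.toMonoidHom.comp
              ((Cfsg.isometryGroup F (Cfsg.quadFormMinus 3 F a b)).subtype.comp
                (Cfsg.Omega F (Cfsg.quadFormMinus 3 F a b)).subtype)))]
          ↥(Cfsg.Omega F (Cfsg.quadFormMinus 3 F a b)) → ℕ) := by
  have h2 := two_ne_zero_of_odd hF
  refine general (Q := QMinus 3 F a b) hF (QMinus_nondegenerate 3 hab) (by simp) ?_ _
    fun _ _ => rfl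
  obtain ⟨u, hu, hu'⟩ := exists_orthFam_QMinus h2 3 hab
  have hns := not_isSquare_disc h2 hab
  have h0 : a ^ 2 - 4 * b ≠ 0 := fun h => hns (h ▸ IsSquare.zero)
  rw [dsc_orthFam hF hu (by simp), hu', show Module.finrank F ((Fin 3 ⊕ Fin 3) ⊕ Fin 2 → F) = 4 * 2
    by simp, pow_mul, eu_sq_mul hF (pow_ne_zero _ h2), show (-1 : F) ^ (3 + 1) = 1 by norm_num,
    one_mul]
  exact (eu_sign hF h0).resolve_left fun h => hns ((eu_eq_one_iff hF h0).mp h)

end Cfsg.Agent.S2517
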