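import Cfsg.Statements.S2518
import Cfsg.Agent.Lang.SpecG2
import Cfsg.Agent.S2475

set_option autoImplicit false
open Cfsg

namespace Cfsg.Agent.S2518

open Cfsg.Agent.Lang Cfsg.Agent.Chev Cfsg.Agent.RGD


/-- Let F₃ be the field with 3 elements and F₁₃ the field with 13 elements. The Chevalley group G₂(F₃) and PSL(2, F₁₃) have the same prime graph: the same prime divisors of their orders, and for distinct primes r, s an element of order rs in one iff in the other. -/
theorem result {F : Type*} [Field F] [Fintype F] (hF : Fintype.card F = 3) {E : Type*} [Field E] [Fintype E] (hE : Fintype.card E = 13) :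
    ((∀ r : ℕ, r.Prime → (r ∣ Nat.card ↥(Cfsg.Lie.chevG2.group F) ↔ r ∣ Nat.card (Matrix.ProjectiveSpecialLinearGroup (Fin 2) E))) ∧
      (∀ r s : ℕ, r.Prime → s.Prime → r ≠ s → ((∃ x : ↥(Cfsg.Lie.chevG2.group F), orderOf x = r * s) ↔ (∃ y : (Matrix.ProjectiveSpecialLinearGroup (Fin 2) E), orderOf y = r * s)))) := by
  have := Fact.mk (by norm_num : Nat.Prime 13)
  have h2 : CharP F 3 := charP_of_card_eq_prime hF
  have h3 : CharP E 13 := charP_of_card_eq_prime hE
  have : Finite (Cfsg.Lie.chevG2.group F) := inferInstance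
  have key : ∀ n, Squarefree n → ((∃ x : ↥(Cfsg.Lie.chevG2.group F), orderOf x = n) ↔
      ∃ y : Matrix.ProjectiveSpecialLinearGroup (Fin 2) E, orderOf y = n) := fun n hn => by
    rw [← Nat.card_eq_fintype_card] at hF
    refine Iff.trans ?_ (Set.ext_iff.1 (S2475.result 13 (by omega)) n).symm
    rw [hE]
    change _ ↔ n ∣ 13 ∨ n ∣ 6 ∨ n ∣ 7
    constructor
    · rintro ⟨x, rfl⟩
      have h6 : ∀ m, m ∣ 6 ^ 3 → orderOf x ∣ m → orderOf x ∣ 13 ∨ orderOf x ∣ 6 ∨ orderOf x ∣ 7 := fun m h h' =>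
        Or.inr (Or.inl ((hn.dvd_pow_iff_dvd three_ne_zero).1 (h'.trans h)))
      rcases g2_bound 3 hF x with h | h | h | h | h | h | h
      exacts [h6 _ (by norm_num) h, Or.inl h, Or.inr (Or.inr h), h6 _ (by norm_num) h, h6 _ (by norm_num) h,
        absurd h.1 (by norm_num), h6 _ (by norm_num) h.2]
    · obtain ⟨-, ⟨x, e2⟩, ⟨y, e3⟩, ⟨z, e4⟩, -⟩ := g2_orders 3 hF
      rintro (h | h | h)
      exacts [SL2.exists_orderOf_of_dvd x (e2 ▸ h), SL2.exists_orderOf_of_dvd z (e4 ▸ h),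
        SL2.exists_orderOf_of_dvd y (e3 ▸ h)]
  refine ⟨fun r hr => ?_, fun r s hr hs h => key _ ((Nat.squarefree_mul ((Nat.coprime_primes hr hs).2 h)).2
    ⟨hr.squarefree, hs.squarefree⟩)⟩
  have := Fact.mk hr
  refine ⟨fun h => ?_, fun h => ?_⟩
  · obtain ⟨y, rfl⟩ := (key r hr.squarefree).1 (exists_prime_orderOf_dvd_card' r h)
    exact orderOf_dvd_natCard y
  · obtain ⟨y, rfl⟩ := (key r hr.squarefree).2 (exists_prime_orderOf_dvd_card' r h)
    exact orderOf_dvd_natCard y

end Cfsg.Agent.S2518
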